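/-
The monomial subgroup is maximal in the special linear group of dimension three, fields with at least
five elements. The overgroup is enlarged by scalars, so that it contains homologies with a cube as
eigenvalue; every column of its elements then has at most two entries.
-/
import Cfsg.Agent.Lib.ClassicalMax.MonFour
import Cfsg.Agent.Lib.ClassicalMax.BlockSmall
import Cfsg.Agent.Lib.ClassicalMax.SympTools
set_option autoImplicit false
set_option maxHeartbeats 1000000

namespace CfsgLib.ClassicalMax.SL3Geo.MonThree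

open Matrix Cfsg.Geo MonG
open CfsgLib.ClassicalMax.MonFour (scal scal_mulVec scal_mul scal_one scal_comm withScal)

variable {ι : Type} [Fintype ι] [DecidableEq ι] {F : Type*} [Field F]

lemma exists_third (hn : Fintype.card ι = 3) {k l : ι} (hkl : k ≠ l) :
    ∃ j, j ≠ k ∧ j ≠ l ∧ (∀ i, i = k ∨ i = l ∨ i = j) ∧ ∀ f : ι → F, ∑ i, f i = f k + f l + f j := by
  obtain ⟨j, -, hj⟩ := Finset.exists_mem_notMem_of_card_lt_card (s := ({k, l} : Finset ι))
    (t := Finset.univ) (Finset.card_le_two.trans_lt (by rw [Finset.card_univ]; omega))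
  simp only [Finset.mem_insert, Finset.mem_singleton, not_or] at hj
  have hu : ({k, l, j} : Finset ι) = Finset.univ := by
    refine Finset.eq_univ_of_card _ ?_
    rw [Finset.card_insert_of_notMem (by simp [hkl, Ne.symm hj.1]), Finset.card_pair (Ne.symm hj.2), hn]
  refine ⟨j, hj.1, hj.2, fun i => ?_, fun f => ?_⟩
  · have := hu ▸ Finset.mem_univ i
    simpa using this
  · rw [← hu, Finset.sum_insert (by simp [hkl, Ne.symm hj.1]), Finset.sum_pair (Ne.symm hj.2)]
    ring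

variable [DecidableEq F]
variable (N : Subgroup (GL ι F)) (ε : F)

/-- All that is used of the overgroup enlarged by scalars. -/
structure Ctx3 : Prop where
  hN : ∀ σ d, (∃ s : Fˣ, Matrix.det (mon σ d : Matrix ι ι F) = (s : F) ^ 3) → mon σ d ∈ N
  hn : Fintype.card ι = 3
  h0 : ε ≠ 0
  h1 : ε ≠ 1
  hpow : ∃ s : Fˣ, ε = (s : F) ^ 3
  h2 : ε ^ 2 + ε + 1 ≠ 0

variable {N ε}

lemma Ctx3.hasMon (H : Ctx3 N ε) : HasMon N :=
  fun σ d hd => H.hN σ d ⟨1, by rw [hd]; simp⟩

lemma Ctx3.eta_ne (H : Ctx3 N ε) : ε⁻¹ - 1 ≠ 0 :=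
  sub_ne_zero.2 fun e => H.h1 (by simpa using e)

lemma Ctx3.d1_mem (H : Ctx3 N ε) (y : ι) : mon 1 (d1 y (Units.mk0 ε H.h0)) ∈ N := by
  obtain ⟨s, hs⟩ := H.hpow
  refine H.hN _ _ ⟨s, ?_⟩
  rw [det_mon, Fintype.prod_eq_single y (fun i hi => by simp [d1, hi])]
  simp [d1, hs]

lemma fam_conj (H : Ctx3 N ε) {u w : ι → F} (hf : Fam N ε u w) {g : GL ι F} (hg : g ∈ N) :
    Fam N ε ((g : Matrix ι ι F) *ᵥ u) (w ᵥ* ((g⁻¹ : GL ι F) : Matrix ι ι F)) :=
  ⟨by rw [conj_dot, hf.1], conj_psGL g hf.1 H.h0 ▸ conj_mem hf.2 hg⟩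

lemma fam_column (H : Ctx3 N ε) {g : GL ι F} (hg : g ∈ N) (b : ι) :
    Fam N ε ((g : Matrix ι ι F) *ᵥ Pi.single b 1)
      (Pi.single b 1 ᵥ* ((g⁻¹ : GL ι F) : Matrix ι ι F)) := by
  have hb : Fam N ε (Pi.single b 1) (Pi.single b 1) := by
    refine ⟨by simp, ?_⟩
    have : psGL (Pi.single b (1 : F)) (Pi.single b 1) ε = mon 1 (d1 b (Units.mk0 ε H.h0)) := by
      refine gl_ext_mulVec fun x => funext fun i => ?_
      rw [psGL_mulVec (by simp) H.h0, mon_mulVec]
      by_cases hi : i = b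
      · subst hi; simp [d1, Equiv.Perm.one_def]; ring
      · simp [d1, hi, Equiv.Perm.one_def]
    rw [this]
    exact H.d1_mem b
  exact fam_conj H hb hg

/-- A transvection with a coordinate axis gives an elementary one. -/
lemma elem_of_axis (H : Ctx3 N ε) {u : ι → F} {l : ι} (hu : u ≠ 0) (hl : u l = 0)
    (hm : tvGL u (Pi.single l 1) ∈ N) : HasElem N := by
  obtain ⟨j, hj⟩ : ∃ j, u j ≠ 0 := Function.ne_iff.1 hu
  have hjl : j ≠ l := fun e => hj (e ▸ hl)
  have h0 : (Pi.single l (1 : F)) ⬝ᵥ u = 0 := by rw [single_dotProduct, one_mul, hl]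
  have hm2 := conj_mem hm (H.d1_mem j)
  rw [conj_tvGL _ h0, dg_mulVec, dg_vecMul] at hm2
  have eφ : (fun i => (Pi.single l (1 : F) : ι → F) i * ((d1 j (Units.mk0 ε H.h0) i : Fˣ) : F)⁻¹)
      = Pi.single l 1 := by
    funext i
    by_cases hi : i = j
    · subst hi; simp [hjl]
    · simp [d1, hi]
  rw [eφ] at hm2
  have h0' : (Pi.single l (1 : F)) ⬝ᵥ (fun i => ((d1 j (Units.mk0 ε H.h0) i : Fˣ) : F) * u i) = 0 := by
    simp [single_dotProduct, hl]
  have hm3 := tv_sub_left h0 h0' hm hm2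
  have e3 : ((fun i => ((d1 j (Units.mk0 ε H.h0) i : Fˣ) : F) * u i) - u)
      = Pi.single j ((ε - 1) * u j) := by
    funext i
    by_cases hi : i = j
    · subst hi; simp [d1]; ring
    · simp [d1, hi]
  rw [e3] at hm3
  exact ⟨j, l, _, hjl, mul_ne_zero (sub_ne_zero.2 H.h1) hj, hm3⟩

/-- A transvection with a coordinate centre gives an elementary one. -/
lemma elem_of_centre (H : Ctx3 N ε) {φ : ι → F} {j : ι} (hφ : φ ≠ 0) (hj : φ j = 0)
    (hm : tvGL (Pi.single j 1) φ ∈ N) : HasElem N := by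
  obtain ⟨l, hl⟩ : ∃ l, φ l ≠ 0 := Function.ne_iff.1 hφ
  have hlj : l ≠ j := fun e => hl (e ▸ hj)
  have h0 : φ ⬝ᵥ (Pi.single j (1 : F)) = 0 := by rw [dotProduct_single, hj, zero_mul]
  have hm2 := conj_mem hm (H.d1_mem l)
  rw [conj_tvGL _ h0, dg_mulVec, dg_vecMul] at hm2
  have eu : (fun i => ((d1 l (Units.mk0 ε H.h0) i : Fˣ) : F) * (Pi.single j (1 : F) : ι → F) i)
      = Pi.single j 1 := by
    funext i
    by_cases hi : i = l
    · subst hi; simp [hlj]
    · simp [d1, hi]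
  rw [eu] at hm2
  have h0' : (fun i => φ i * ((d1 l (Units.mk0 ε H.h0) i : Fˣ) : F)⁻¹) ⬝ᵥ (Pi.single j (1 : F)) = 0 := by
    simp [dotProduct_single, hj]
  have hm3 := tv_sub_right h0 h0' hm hm2
  set c := (ε⁻¹ - 1) * φ l
  have e3 : ((fun i => φ i * ((d1 l (Units.mk0 ε H.h0) i : Fˣ) : F)⁻¹) - φ)
      = c • (Pi.single l (1 : F) : ι → F) := by
    funext i
    by_cases hi : i = l
    · subst hi; simp [d1, c]; ring
    · simp [d1, hi]
  rw [e3, ← tvGL_smul _ (by rw [single_dotProduct, one_mul, Pi.single_eq_of_ne hlj]),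
    ← Pi.single_smul, smul_eq_mul, mul_one] at hm3
  exact ⟨j, l, c, hlj.symm, mul_ne_zero H.eta_ne hl, hm3⟩

lemma asym_right (H : Ctx3 N ε) {u w : ι → F} (hf : Fam N ε u w) {y : ι} (hu : u y = 0)
    (hw : w y ≠ 0) : HasElem N := by
  have hf' := fam_conj H hf (H.d1_mem y)
  rw [dg_mulVec, dg_vecMul] at hf'
  have e : (fun i => ((d1 y (Units.mk0 ε H.h0) i : Fˣ) : F) * u i) = u := by
    funext i
    by_cases hi : i = y
    · simp [hi, hu]
    · simp [d1, hi]
  rw [e] at hf'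
  have hm : tvGL u ((ε⁻¹ - 1) • (w - fun i => w i * ((d1 y (Units.mk0 ε H.h0) i : Fˣ) : F)⁻¹)) ∈ N := by
    rw [← psGL_mul_right hf.1 hf'.1 H.h0, ← psGL_inv hf.1 H.h0]
    exact N.mul_mem (N.inv_mem hf.2) hf'.2
  have hne : (ε⁻¹ - 1) * (w y - w y * ε⁻¹) ≠ 0 := by
    have : w y - w y * ε⁻¹ = -(w y * (ε⁻¹ - 1)) := by ring
    rw [this, mul_neg]
    exact neg_ne_zero.2 (mul_ne_zero H.eta_ne (mul_ne_zero hw H.eta_ne))
  have e2 : (ε⁻¹ - 1) • (w - fun i => w i * ((d1 y (Units.mk0 ε H.h0) i : Fˣ) : F)⁻¹)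
      = ((ε⁻¹ - 1) * (w y - w y * ε⁻¹)) • (Pi.single y (1 : F)) := by
    funext i
    by_cases hi : i = y
    · subst hi; simp [d1]
    · simp [d1, hi]
  have h0 : (Pi.single y (1 : F)) ⬝ᵥ u = 0 := by simp [single_dotProduct, hu]
  rw [e2, ← tvGL_smul _ h0] at hm
  exact elem_of_axis H (smul_ne_zero hne fun e0 => by simpa [e0] using hf.1) (by simp [hu]) hm

lemma asym_left (H : Ctx3 N ε) {u w : ι → F} (hf : Fam N ε u w) {y : ι} (hu : u y ≠ 0)
    (hw : w y = 0) : HasElem N := by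
  have hf' := fam_conj H hf (H.d1_mem y)
  rw [dg_mulVec, dg_vecMul] at hf'
  have e : (fun i => w i * ((d1 y (Units.mk0 ε H.h0) i : Fˣ) : F)⁻¹) = w := by
    funext i
    by_cases hi : i = y
    · simp [hi, hw]
    · simp [d1, hi]
  rw [e] at hf'
  have hm : tvGL ((ε - 1) • ((fun i => ((d1 y (Units.mk0 ε H.h0) i : Fˣ) : F) * u i) - u)) w ∈ N := by
    rw [← psGL_mul_left hf.1 hf'.1 H.h0, ← psGL_inv hf.1 H.h0]
    exact N.mul_mem (N.inv_mem hf.2) hf'.2
  have e2 : (ε - 1) • ((fun i => ((d1 y (Units.mk0 ε H.h0) i : Fˣ) : F) * u i) - u)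
      = ((ε - 1) * ((ε - 1) * u y)) • (Pi.single y (1 : F)) := by
    funext i
    by_cases hi : i = y
    · subst hi
      simp only [d1, Pi.smul_apply, Pi.sub_apply, Function.update_self, Units.val_mk0, smul_eq_mul,
        Pi.single_eq_same]
      ring
    · simp [d1, hi]
  have h0 : w ⬝ᵥ (Pi.single y (1 : F)) = 0 := by simp [dotProduct_single, hw]
  rw [e2, tvGL_smul _ h0] at hm
  exact elem_of_centre H
    (smul_ne_zero (mul_ne_zero (sub_ne_zero.2 H.h1) (mul_ne_zero (sub_ne_zero.2 H.h1) hu))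
      fun e0 => by simpa [e0] using hf.1)
    (by simp [hw]) hm

lemma supp_iff (H : Ctx3 N ε) (he : ¬ HasElem N) {u w : ι → F} (hf : Fam N ε u w) (y : ι) :
    u y = 0 ↔ w y = 0 :=
  ⟨fun h => by_contra fun h' => he (asym_right H hf h h'),
    fun h => by_contra fun h' => he (asym_left H hf h' h)⟩

/-- A member with three non-zero entries has equal products. -/
lemma prod_eq (H : Ctx3 N ε) (he : ¬ HasElem N) {u w : ι → F} (hf : Fam N ε u w)
    (hu : ∀ y, u y ≠ 0) {k l : ι} (hkl : k ≠ l) : u k * w k = u l * w l := by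
  obtain ⟨j, hjk, hjl, hall, -⟩ := exists_third (F := F) H.hn hkl
  by_contra hne
  refine he ?_
  have hk := hu k
  have hl := hu l
  set d : ι → Fˣ := dfun k (Units.mk0 (u l / u k) (div_ne_zero hl hk)) l
    (Units.mk0 (u k / u l) (div_ne_zero hk hl))
  have hd : Matrix.det (mon (Equiv.swap k l) d : Matrix ι ι F) = ((-1 : Fˣ) : F) ^ 3 := by
    rw [det_mon, Equiv.Perm.sign_swap hkl, prod_dfun hkl]
    simp
    field_simp
  have hh := H.hN (Equiv.swap k l) d ⟨-1, hd⟩
  set h := mon (Equiv.swap k l) d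
  have hfix : (h : Matrix ι ι F) *ᵥ u = u := by
    funext i
    rw [mon_mulVec, Equiv.symm_swap]
    rcases hall i with rfl | rfl | rfl
    · simp [d, dfun, hkl, hkl.symm, div_mul_cancel₀ _ hl]
    · simp [d, dfun, hkl, hkl.symm, div_mul_cancel₀ _ hk]
    · simp [d, dfun, Equiv.swap_apply_of_ne_of_ne hjk hjl, hjk, hjl]
  have hf' := fam_conj H hf hh
  rw [hfix] at hf'
  set w' := w ᵥ* ((h⁻¹ : GL ι F) : Matrix ι ι F)
  have hw'j : w' j = w j := by
    simp only [w', h, vecMul_mon_inv]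
    simp [d, dfun, Equiv.swap_apply_of_ne_of_ne hjk hjl, hjk, hjl]
  have hw'k : w' k ≠ w k := by
    simp only [w', h, vecMul_mon_inv, Equiv.symm_swap, Equiv.swap_apply_left]
    simp [d, dfun, hkl.symm]
    intro e
    refine hne ?_
    field_simp at e
    linear_combination -e
  set φ := (ε⁻¹ - 1) • (w - w') with hφdef
  have hm : tvGL u φ ∈ N := by
    rw [hφdef, ← psGL_mul_right hf.1 hf'.1 H.h0, ← psGL_inv hf.1 H.h0]
    exact N.mul_mem (N.inv_mem hf.2) hf'.2
  have hφu : φ ⬝ᵥ u = 0 := by simp [φ, sub_dotProduct, hf.1, hf'.1]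
  have hφj : φ j = 0 := by simp [φ, hw'j]
  have hφk : φ k ≠ 0 := by
    simp only [φ, Pi.smul_apply, Pi.sub_apply, smul_eq_mul]
    exact mul_ne_zero H.eta_ne (sub_ne_zero.2 hw'k.symm)
  have hm2 := conj_mem hm (H.d1_mem j)
  rw [conj_tvGL _ hφu, dg_mulVec, dg_vecMul] at hm2
  have e2 : (fun i => φ i * ((d1 j (Units.mk0 ε H.h0) i : Fˣ) : F)⁻¹) = φ := by
    funext i
    by_cases hi : i = j
    · simp [hi, hφj]
    · simp [d1, hi]
  rw [e2] at hm2
  have hu2 : φ ⬝ᵥ (fun i => ((d1 j (Units.mk0 ε H.h0) i : Fˣ) : F) * u i) = 0 := by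
    rw [← hφu]
    refine Finset.sum_congr rfl fun i _ => ?_
    by_cases hi : i = j
    · simp [hi, hφj]
    · simp [d1, hi]
  have hm3 := tv_sub_left hφu hu2 hm hm2
  have e3 : ((fun i => ((d1 j (Units.mk0 ε H.h0) i : Fˣ) : F) * u i) - u)
      = ((ε - 1) * u j) • (Pi.single j (1 : F)) := by
    funext i
    by_cases hi : i = j
    · subst hi; simp [d1]; ring
    · simp [d1, hi]
  rw [e3, tvGL_smul _ (by simp [dotProduct_single, hφj])] at hm3
  exact elem_of_centre H
    (smul_ne_zero (mul_ne_zero (sub_ne_zero.2 H.h1) (hu j)) fun e0 => hφk (by rw [e0]; rfl))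
    (by simp [hφj]) hm3

/-- No member has three non-zero entries. -/
lemma no_full (H : Ctx3 N ε) (he : ¬ HasElem N) {u w : ι → F} (hf : Fam N ε u w) {k l j : ι}
    (hkl : k ≠ l) (hjk : j ≠ k) (hjl : j ≠ l) (hk : u k ≠ 0) (hl : u l ≠ 0) (hj : u j ≠ 0) :
    False := by
  obtain ⟨j', hj'k, hj'l, hall, hsum⟩ := exists_third (F := F) H.hn hkl
  obtain rfl : j = j' := by
    rcases hall j with h | h | h
    · exact absurd h hjk
    · exact absurd h hjl
    · exact h
  have hu : ∀ y, u y ≠ 0 := fun y => by rcases hall y with rfl | rfl | rfl <;> assumption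
  have el := prod_eq H he hf hu hkl
  have ej := prod_eq H he hf hu hjk.symm
  set c := u k * w k with hc
  have h3 : (3 : F) * c = 1 := by
    have h := hf.1
    rw [dotProduct, hsum] at h
    linear_combination h + el + ej + 0 * hc
  have hf1 := fam_column H hf.2 k
  rw [psGL_mulVec hf.1 H.h0, psGL_vecMul hf.1 H.h0, dotProduct_single, single_dotProduct,
    mul_one, one_mul] at hf1
  have hη : ε - 1 ≠ 0 := sub_ne_zero.2 H.h1
  have hinv := mul_inv_cancel₀ H.h0
  by_cases h0 : 1 + (ε - 1) * c = 0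
  · have hz := (supp_iff H he hf1 k).1 (by
      simp only [Pi.add_apply, Pi.smul_apply, smul_eq_mul, Pi.single_eq_same]
      linear_combination h0 + (ε - 1) * (0 : F) + 0 * hc)
    simp only [Pi.add_apply, Pi.smul_apply, smul_eq_mul, Pi.single_eq_same] at hz
    have h4 : (ε - ε⁻¹) * c = 0 := by linear_combination h0 - hz
    have hc0 : c ≠ 0 := fun e => one_ne_zero (α := F) (by linear_combination 3 * e - h3)
    have h5 : (ε - 1) * (ε + 1) = 0 := by
      linear_combination ε * ((mul_eq_zero.1 h4).resolve_right hc0) + hinv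
    have h6 : ε + 1 = 0 := (mul_eq_zero.1 h5).resolve_left hη
    refine hc0 ?_
    linear_combination h3 + (h0 - c * h6)
  · have hwk : w k ≠ 0 := fun e => hk ((supp_iff H he hf k).2 e)
    have hu1 : ∀ y, (Pi.single k (1 : F) + ((ε - 1) * w k) • u : ι → F) y ≠ 0 := fun y => by
      simp only [Pi.add_apply, Pi.smul_apply, smul_eq_mul]
      by_cases hy : y = k
      · subst hy
        rw [Pi.single_eq_same]
        exact fun e => h0 (by linear_combination e + 0 * hc)
      · rw [Pi.single_eq_of_ne hy, zero_add]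
        exact mul_ne_zero (mul_ne_zero hη hwk) (hu y)
    have e1 := prod_eq H he hf1 hu1 hkl
    simp only [Pi.add_apply, Pi.smul_apply, smul_eq_mul, Pi.single_eq_same,
      Pi.single_eq_of_ne hkl.symm, zero_add] at e1
    have h5 : 1 + ((ε - 1) + (ε⁻¹ - 1)) * c = 0 := by
      linear_combination e1 - ((ε - 1) * (ε⁻¹ - 1) * c) * el
    refine H.h2 ?_
    linear_combination 3 * ε * h5 - ((ε - 1) + (ε⁻¹ - 1)) * ε * h3 - hinv

/-- A non-monomial element gives an elementary transvection. -/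
theorem hasElem_of_not_Mon [Fintype F] (hq : 4 ≤ Fintype.card F) (H : Ctx3 N ε) {g : GL ι F}
    (hg : g ∈ N) (hgm : ¬ Mon g) : HasElem N := by
  by_contra he
  simp only [Mon, not_forall, not_exists] at hgm
  obtain ⟨b, hb⟩ := hgm
  obtain ⟨k, -, hk⟩ : ∃ k, k ≠ b ∧ (g : Matrix ι ι F) k b ≠ 0 := by
    obtain ⟨y, hy⟩ := hb b
    simp only [exists_prop] at hy
    exact ⟨y, hy.1, hy.2⟩
  obtain ⟨l, hlk, hl⟩ : ∃ l, l ≠ k ∧ (g : Matrix ι ι F) l b ≠ 0 := by
    obtain ⟨y, hy⟩ := hb k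
    simp only [exists_prop] at hy
    exact ⟨y, hy.1, hy.2⟩
  have hkl := hlk.symm
  obtain ⟨m, hmk, hml, -, -⟩ := exists_third (F := F) H.hn hkl
  have hsupp : ∀ {h : GL ι F}, h ∈ N → ∀ b' : ι, ∀ y, y ≠ k → y ≠ l →
      MonG.col h b' k ≠ 0 → MonG.col h b' l ≠ 0 → MonG.col h b' y = 0 := by
    intro h hh b' y hyk hyl h1 h2
    by_contra h3
    have hf := fam_column H hh b'
    rw [col_eq'] at hf
    exact no_full H he hf hkl hyk hyl h1 h2 h3
  have hgb : ∀ y, y ≠ k → y ≠ l → MonG.col g b y = 0 := fun y a c => hsupp hg b y a c hk hl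
  obtain ⟨j, hjm⟩ := exists_row_ne_zero g m
  have hjb : b ≠ j := fun e => hjm (e ▸ hgb m hmk hml)
  obtain ⟨t, ht0, ht1, ht2⟩ := MonFour.exists_avoid hq (-(MonG.col g b k / MonG.col g j k))
    (-(MonG.col g b l / MonG.col g j l))
  have hne : ∀ y, MonG.col g b y ≠ 0 → t ≠ -(MonG.col g b y / MonG.col g j y) →
      MonG.col g b y + t * MonG.col g j y ≠ 0 := by
    intro y hy htne e
    rcases eq_or_ne (MonG.col g j y) 0 with h0 | h0
    · rw [h0, mul_zero, add_zero] at e; exact hy e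
    · exact htne (by field_simp; linear_combination e)
  obtain ⟨σ, hσb, hσj⟩ : ∃ σ : Equiv.Perm ι, σ k = b ∧ σ l = j := by
    refine ⟨Equiv.swap (Equiv.swap k b l) j * Equiv.swap k b, ?_, by simp⟩
    rw [Equiv.Perm.mul_apply, Equiv.swap_apply_left, Equiv.swap_apply_of_ne_of_ne _ hjb]
    intro e
    exact hkl ((Equiv.swap k b).injective (by rw [Equiv.swap_apply_left]; exact e))
  have hP : ((Equiv.Perm.sign σ : ℤ) : F) * MonG.col g b k * MonG.col g b l * t⁻¹ ≠ 0 := by
    refine mul_ne_zero (mul_ne_zero (mul_ne_zero ?_ hk) hl) (inv_ne_zero ht0)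
    rcases Int.units_eq_one_or (Equiv.Perm.sign σ) with h | h <;> simp [h]
  set d : ι → Fˣ := Function.update (dfun k (Units.mk0 (MonG.col g b k)⁻¹ (inv_ne_zero hk)) l
    (Units.mk0 (t / MonG.col g b l) (div_ne_zero ht0 hl))) m (Units.mk0 _ hP)
  have hd : Matrix.det (mon σ d : Matrix ι ι F) = 1 := by
    rw [det_mon, MonFour.prod_dfun_three hkl hmk.symm hml.symm]
    simp only [Units.val_mk0]
    have hk' : MonG.col g b k ≠ 0 := hk
    have hl' : MonG.col g b l ≠ 0 := hl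
    rcases Int.units_eq_one_or (Equiv.Perm.sign σ) with h | h <;> simp [h] <;> field_simp
  have hv : (mon σ d : Matrix ι ι F) *ᵥ MonG.col g b = Pi.single b 1 + t • Pi.single j (1 : F) := by
    funext i
    obtain ⟨z, rfl⟩ := σ.surjective i
    rw [mon_mulVec, Equiv.symm_apply_apply]
    by_cases hzk : z = k
    · subst hzk
      rw [hσb]
      simp [d, dfun, hmk.symm, hkl, hjb, show MonG.col g b z ≠ 0 from hk]
    by_cases hzl : z = l
    · subst hzl
      rw [hσj]
      simp [d, dfun, hml.symm, hzk, hjb.symm, show MonG.col g b z ≠ 0 from hl]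
    have e1 : σ z ≠ b := fun e => hzk (σ.injective (by rw [e, hσb]))
    have e2 : σ z ≠ j := fun e => hzl (σ.injective (by rw [e, hσj]))
    simp [hgb z hzk hzl, e1, e2]
  have hmem : g * mon σ d * g ∈ N := N.mul_mem (N.mul_mem hg (H.hasMon _ _ hd)) hg
  have hcol : ∀ y, MonG.col (g * mon σ d * g) b y = MonG.col g b y + t * MonG.col g j y := fun y => by
    rw [← col_eq', gl_mulVec_mul, gl_mulVec_mul, col_eq', hv, mulVec_add, mulVec_smul, col_eq',
      col_eq']
    rfl
  have hfin := hsupp hmem b m hmk hml (hcol k ▸ hne k hk ht1) (hcol l ▸ hne l hl ht2)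
  rw [hcol, hgb m hmk hml, zero_add] at hfin
  exact mul_ne_zero ht0 hjm hfin

omit [DecidableEq F] in
lemma exists_ctx [Fintype F] (hq : 5 ≤ Fintype.card F) :
    ∃ ε : F, ε ≠ 0 ∧ ε ≠ 1 ∧ (∃ s : Fˣ, ε = (s : F) ^ 3) ∧ ε ^ 2 + ε + 1 ≠ 0 := by
  classical
  obtain ⟨g, hg⟩ := IsCyclic.exists_generator (α := Fˣ)
  have hord : orderOf g = Fintype.card F - 1 := by
    rw [orderOf_eq_card_of_forall_mem_zpowers hg, Nat.card_eq_fintype_card, Fintype.card_units]
  have hpow : ∀ n : ℕ, (g : F) ^ n = 1 → Fintype.card F - 1 ∣ n := fun n hn => by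
    rw [← hord]
    exact orderOf_dvd_of_pow_eq_one (Units.ext (by simpa using hn))
  have h3 : (g : F) ^ 3 ≠ 1 := fun e => by
    have := Nat.le_of_dvd (by norm_num) (hpow 3 e); omega
  refine ⟨(g : F) ^ 3, pow_ne_zero _ g.ne_zero, h3, ⟨g, rfl⟩, fun e => ?_⟩
  have h9 : (g : F) ^ 9 = 1 := by linear_combination ((g : F) ^ 3 - 1) * e
  have hd := hpow 9 h9
  obtain ⟨p, n, hp, hc⟩ : ∃ (p : ℕ) (n : ℕ), p.Prime ∧ Fintype.card F = p ^ n := by
    obtain ⟨p, n, hp, hn, hc⟩ := (isPrimePow_nat_iff _).1 (FiniteField.isPrimePow_card F)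
    exact ⟨p, n, hp, hc.symm⟩
  have h10 : Fintype.card F = 10 := by
    have := Nat.le_of_dvd (by norm_num) hd
    rcases (show Fintype.card F - 1 = 4 ∨ Fintype.card F - 1 = 5 ∨ Fintype.card F - 1 = 6 ∨
      Fintype.card F - 1 = 7 ∨ Fintype.card F - 1 = 8 ∨ Fintype.card F - 1 = 9 by omega)
      with h | h | h | h | h | h <;> rw [h] at hd <;> omega
  rw [h10] at hc
  have h2 : 2 ∣ p := Nat.prime_two.dvd_of_dvd_pow (hc ▸ by norm_num : 2 ∣ p ^ n)
  have h5 : 5 ∣ p := (by norm_num : Nat.Prime 5).dvd_of_dvd_pow (hc ▸ by norm_num : 5 ∣ p ^ n)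
  rw [(Nat.prime_dvd_prime_iff_eq Nat.prime_two hp).1 h2 |>.symm] at h5
  norm_num at h5

/-- One elementary transvection and the monomial group give the special linear group. -/
theorem sl_le_of_hasElem {M : Subgroup (GL ι F)} (hM : HasMon M) (hn : Fintype.card ι = 3)
    (he : HasElem M) : specialLinear ι F ≤ M := by
  obtain ⟨j, l, c, hjl, hc, hm⟩ := he
  refine sl_le_of_elementary fun a b hab a' => ?_
  rcases eq_or_ne a' 0 with rfl | ha'
  · rw [Pi.single_zero, tvGL_zero_left]; exact M.one_mem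
  obtain ⟨σ, hσa, hσb⟩ : ∃ σ : Equiv.Perm ι, σ j = a ∧ σ l = b := by
    refine ⟨Equiv.swap (Equiv.swap j a l) b * Equiv.swap j a, ?_, by simp⟩
    rw [Equiv.Perm.mul_apply, Equiv.swap_apply_left, Equiv.swap_apply_of_ne_of_ne _ hab]
    intro e
    exact hjl ((Equiv.swap j a).injective (by rw [Equiv.swap_apply_left]; exact e))
  obtain ⟨y, hyj, hyl, -, -⟩ := exists_third (F := F) hn hjl
  set t : Fˣ := Units.mk0 (a' / c) (div_ne_zero ha' hc)
  set sg : Fˣ := if Equiv.Perm.sign σ = 1 then 1 else -1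
  have hdet : Matrix.det (mon σ (dfun j t y (sg * t⁻¹)) : Matrix ι ι F) = 1 := by
    rw [det_mon, prod_dfun hyj.symm]
    rcases Int.units_eq_one_or (Equiv.Perm.sign σ) with h | h <;>
      simp [sg, h, t] <;> field_simp
  have hm2 := conj_mem hm (hM σ _ hdet)
  have h0 : (Pi.single l (1 : F)) ⬝ᵥ (Pi.single j c : ι → F) = 0 := by
    rw [single_dotProduct, one_mul, Pi.single_eq_of_ne hjl.symm]
  rw [conj_tvGL _ h0, mon_mulVec_single, hσa] at hm2
  have e1 : (Pi.single l (1 : F)) ᵥ* (((mon σ (dfun j t y (sg * t⁻¹)))⁻¹ : GL ι F) : Matrix ι ι F)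
      = Pi.single b 1 := by
    funext i
    rw [vecMul_mon_inv]
    by_cases hi : i = b
    · subst hi
      simp [← hσb, dfun, hjl.symm, hyl.symm]
    · have : σ.symm i ≠ l := fun e => hi (by rw [← hσb, ← e, Equiv.apply_symm_apply])
      simp [this, hi]
  rw [e1] at hm2
  simpa [dfun, hyj.symm, t, div_mul_cancel₀ _ hc] using hm2

/-- A non-monomial element of an overgroup of the monomial group gives `SL₃`, when `q ≥ 5`. -/
theorem sl_le_of_not_Mon [Fintype F] (hq : 5 ≤ Fintype.card F) (hn : Fintype.card ι = 3)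
    {M : Subgroup (GL ι F)} (hM : HasMon M) (hsl : M ≤ specialLinear ι F) {g : GL ι F} (hg : g ∈ M)
    (hgm : ¬ Mon g) : specialLinear ι F ≤ M := by
  classical
  refine sl_le_of_hasElem hM hn ?_
  obtain ⟨ε, h0, h1, hpow, h2⟩ := exists_ctx (F := F) hq
  have hN : ∀ σ d, (∃ s : Fˣ, Matrix.det (mon σ d : Matrix ι ι F) = (s : F) ^ 3) →
      mon σ d ∈ withScal M := by
    rintro σ d ⟨s, hs⟩
    refine ⟨s⁻¹, ?_⟩
    have e : scal s⁻¹ * mon σ d = mon σ (fun y => s⁻¹ * d y) := by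
      refine gl_ext_mulVec fun x => funext fun i => ?_
      rw [gl_mulVec_mul, scal_mulVec, Pi.smul_apply, smul_eq_mul, mon_mulVec, mon_mulVec,
        Units.val_mul, mul_assoc]
    rw [e]
    refine hM _ _ ?_
    rw [det_mon] at hs ⊢
    simp only [Units.val_mul, Finset.prod_mul_distrib, Finset.prod_const, Finset.card_univ, hn]
    rw [← mul_assoc, mul_comm _ ((((s⁻¹ : Fˣ)) : F) ^ 3), mul_assoc, hs, ← mul_pow, ← Units.val_mul,
      inv_mul_cancel, Units.val_one, one_pow]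
  have hg' : g ∈ withScal M := ⟨1, by rw [scal_one, one_mul]; exact hg⟩
  obtain ⟨j, l, c, hjl, hc, a, ha⟩ :=
    hasElem_of_not_Mon (by omega) ⟨hN, hn, h0, h1, hpow, h2⟩ hg' hgm
  have hd := hsl ha
  rw [specialLinear, MonoidHom.mem_ker] at hd
  have hd' : (a : F) ^ 3 = 1 := by
    have := congrArg Units.val hd
    simp only [Matrix.GeneralLinearGroup.val_det_apply, Units.val_mul, det_mul, det_tvGL,
      mul_one, Units.val_one, scal, det_mon] at this
    simpa [hn] using this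
  have h0' : ∀ x : F, (Pi.single l (1 : F)) ⬝ᵥ (Pi.single j x : ι → F) = 0 := fun x => by
    rw [single_dotProduct, one_mul, Pi.single_eq_of_ne hjl.symm]
  by_cases h3 : (3 : F) = 0
  · have ha1 : a = 1 := by
      refine Units.ext (sub_eq_zero.1 ((pow_eq_zero_iff (by norm_num : (3 : ℕ) ≠ 0)).1 ?_))
      rw [Units.val_one]
      linear_combination hd' + (-(a : F) ^ 2 + (a : F)) * h3
    rw [ha1, scal_one, one_mul] at ha
    exact ⟨j, l, c, hjl, hc, ha⟩
  · refine ⟨j, l, c + c + c, hjl, by rw [show c + c + c = 3 * c by ring]; exact mul_ne_zero h3 hc, ?_⟩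
    have e : (scal a * tvGL (Pi.single j c) (Pi.single l 1)) *
        (scal a * tvGL (Pi.single j c) (Pi.single l 1)) *
        (scal a * tvGL (Pi.single j c) (Pi.single l 1))
        = tvGL (Pi.single j (c + c + c)) (Pi.single l 1) := by
      refine gl_ext_mulVec fun x => ?_
      simp only [gl_mulVec_mul, scal_mulVec, tvGL_mulVec (h0' _), single_dotProduct, one_mul]
      funext i
      by_cases hi : i = j
      · subst hi
        simp [hjl.symm]
        linear_combination (x i + (c + c + c) * x l) * hd'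
      · simp [hi, hjl.symm]
        linear_combination (x i) * hd'
    rw [← e]
    exact M.mul_mem (M.mul_mem ha ha) ha

omit [DecidableEq F] in
/-- Stabilisers of decompositions into three lines are maximal in the special linear group. -/
theorem decomposition_maximal [Fintype F] {D : Fin 3 → Submodule F (ι → F)}
    (hD : IsMDecomposition 1 D) (hq : 5 ≤ Fintype.card F) :
    IsMaximalIn (specialLinear ι F) (decompositionStabilizer D ⊓ specialLinear ι F) := by
  classical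
  obtain ⟨Ψ, hdet, hst⟩ := BlockG.exists_transport hD
  have hslI : ∀ g, Ψ g ∈ specialLinear ι F ↔ g ∈ specialLinear (Fin 3 × Fin 1) F := fun g => by
    simp only [specialLinear, MonoidHom.mem_ker, Units.ext_iff, Matrix.GeneralLinearGroup.val_det_apply,
      Units.val_one, hdet]
  have hdet1 : ∀ g : GL (Fin 3 × Fin 1) F, g ∈ specialLinear (Fin 3 × Fin 1) F ↔
      Matrix.det (g : Matrix (Fin 3 × Fin 1) (Fin 3 × Fin 1) F) = 1 := fun g => by
    simp only [specialLinear, MonoidHom.mem_ker, Units.ext_iff, Matrix.GeneralLinearGroup.val_det_apply,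
      Units.val_one]
  have hn : Fintype.card (Fin 3 × Fin 1) = 3 := by simp
  refine CfsgLib.ClassicalMax.isMaximalIn_of inf_le_right ?_ fun M hHM hMK g hg hgH => ?_
  · set a : Fin 3 × Fin 1 := (0, 0)
    set b : Fin 3 × Fin 1 := (1, 0)
    have hab : a ≠ b := fun e => by simpa [a, b] using congrArg Prod.fst e
    have h0 : (Pi.single a (1 : F)) ⬝ᵥ (Pi.single b (1 : F) : Fin 3 × Fin 1 → F) = 0 := by
      simp [hab.symm]
    refine ⟨Ψ (tvGL (Pi.single b 1) (Pi.single a 1)), (hslI _).2 (tvGL_mem_sl _ _), fun hm => ?_⟩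
    obtain ⟨j', hj'⟩ := (hst _).1 hm.1 a.1
    by_cases h : a.1 = j'
    · have := hj' a b rfl (by rw [← h]; simp [a, b])
      simp [coe_tvGL h0, vecMulVec_apply, hab.symm] at this
    · have := hj' a a rfl h
      simp [coe_tvGL h0, vecMulVec_apply, hab] at this
  intro x hx
  set M' := M.comap Ψ.toMonoidHom with hM'
  have hB' : ∀ k : GL (Fin 3 × Fin 1) F, Mon k → BlockG.Bst k := fun k hk j => by
    obtain ⟨b', hb'⟩ := hk (j, 0)
    refine ⟨b'.1, fun i y hi hy => ?_⟩
    rw [show i = (j, 0) from Prod.ext hi (Subsingleton.elim _ _)]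
    exact hb' y fun e => hy (e ▸ rfl)
  have hgM' : Ψ.symm g ∈ M' := by
    change Ψ (Ψ.symm g) ∈ M
    rwa [MulEquiv.apply_symm_apply]
  have hsl : specialLinear (Fin 3 × Fin 1) F ≤ M' := by
    refine sl_le_of_not_Mon hq hn (fun σ d h1 => hHM ⟨(hst _).2 (hB' _ (mon_Mon σ d)),
      (hslI _).2 ((hdet1 _).2 h1)⟩) (fun k hk => (hslI k).1 (hMK hk)) hgM' fun hm => hgH
      ⟨by simpa using (hst _).2 (hB' _ hm), hMK hg⟩
  have := hsl ((hslI (Ψ.symm x)).1 (by rwa [MulEquiv.apply_symm_apply]))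
  change Ψ (Ψ.symm x) ∈ M at this
  rwa [MulEquiv.apply_symm_apply] at this

end CfsgLib.ClassicalMax.SL3Geo.MonThree
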