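/-
Orthogonal similarities form a maximal subgroup of the special linear group in dimension three, odd
characteristic. The half turns about anisotropic points are used: two of them with one centre give a
transvection, and one transvection with the orthogonal group gives everything.
-/
import Cfsg.Agent.Lib.ClassicalMax.QuadFour
import Cfsg.Agent.Lib.ClassicalMax.LinSubfield
import Cfsg.Agent.Lib.ClassicalMax.MonFour
set_option autoImplicit false
set_option maxHeartbeats 1000000

namespace CfsgLib.ClassicalMax.SL3Geo.QuadThree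

open Matrix Cfsg.Geo QuadraticMap
open CfsgLib.Classical.Quad (NDPolar)
open CfsgLib.ClassicalMax.QuadSim (tq tq_mulVec)
open CfsgLib.ClassicalMax.QuadFour (refl refl_mulVec refl_iso refl_det HasSO pull pull_apply pull_polar
  pull_nd hasSO_pull tq_add_left tq_add_right tq_zero_left tq_zero_right tq_swap_smul polar_self2
  polar_of_iso)
open CfsgLib.ClassicalMax.MonFour (scal scal_mulVec)

variable {ι : Type} [Fintype ι] [DecidableEq ι] {F : Type*} [Field F]
  {Q : QuadraticForm F (ι → F)}

lemma dual_dot' (hnd : NDPolar Q) (r x : ι → F) : Om.dual (⇑Q) r ⬝ᵥ x = polar Q x r :=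
  Om.dual_dot (OmS.isNondegenerateQuadraticForm hnd) r x

/-- Orthogonal anisotropic pair and one more vector orthogonal to both span. -/
lemma span_orth (hn : Fintype.card ι = 3) (h2 : (2 : F) ≠ 0) {u p e : ι → F} (hu : Q u ≠ 0)
    (hp : Q p ≠ 0) (he : e ≠ 0) (hpu : polar Q p u = 0) (heu : polar Q e u = 0)
    (hep : polar Q e p = 0) : Submodule.span F (Set.range ![u, p, e]) = ⊤ := by
  have hli : LinearIndependent F ![u, p, e] := by
    refine Fintype.linearIndependent_iff.2 fun c hc i => ?_
    rw [Fin.sum_univ_three] at hc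
    simp only [Matrix.cons_val_zero, Matrix.cons_val_one, Matrix.cons_val] at hc
    have h1 := congrArg (fun z => polar Q z u) hc
    have h3 := congrArg (fun z => polar Q z p) hc
    simp only [polar_add_left, polar_smul_left, polar_zero_left, polar_self2, hpu, heu, hep,
      polar_comm Q u p, smul_eq_mul, mul_zero, add_zero, zero_add, mul_eq_zero] at h1 h3
    have c0 := h1.resolve_right (mul_ne_zero h2 hu |> fun h => by simpa [h2] using h)
    have c1 := h3.resolve_right (mul_ne_zero h2 hp |> fun h => by simpa [h2] using h)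
    rw [c0, c1, zero_smul, zero_smul, zero_add, zero_add, smul_eq_zero, or_iff_left he] at hc
    fin_cases i <;> assumption
  exact hli.span_eq_top_of_card_eq_finrank (by rw [Fintype.card_fin, Module.finrank_fintype_fun_eq_card, hn])

omit [DecidableEq ι] [Fintype ι] in
lemma polar_eq_zero_of_span {u p e x : ι → F} (hs : Submodule.span F (Set.range ![u, p, e]) = ⊤)
    (h1 : polar Q x u = 0) (h3 : polar Q x p = 0) (h4 : polar Q x e = 0) (y : ι → F) :
    polar Q x y = 0 := by
  have hle : Submodule.span F (Set.range ![u, p, e]) ≤ LinearMap.ker (polarBilin Q x) := by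
    rw [Submodule.span_le]
    rintro _ ⟨i, rfl⟩
    fin_cases i <;> simpa
  rw [hs] at hle
  simpa using LinearMap.mem_ker.1 (hle (Submodule.mem_top (x := y)))

/-- A third vector for an orthogonal anisotropic pair. -/
lemma exists_third (hnd : NDPolar Q) (hn : Fintype.card ι = 3) (h2 : (2 : F) ≠ 0) {u p : ι → F}
    (hu : Q u ≠ 0) (hp : Q p ≠ 0) (hpu : polar Q p u = 0) :
    ∃ e, Q e ≠ 0 ∧ polar Q e u = 0 ∧ polar Q e p = 0 := by
  obtain ⟨e, he, he0⟩ := LinSub.exists_dot_zero ![Om.dual (⇑Q) u, Om.dual (⇑Q) p]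
    (![] : Fin 0 → ι → F) (by omega)
  have heu : polar Q e u = 0 := by rw [← dual_dot' hnd u e]; exact he 0
  have hep : polar Q e p = 0 := by rw [← dual_dot' hnd p e]; exact he 1
  have he' : e ≠ 0 := fun h => he0 (by rw [h]; exact zero_mem _)
  refine ⟨e, fun hee => he' (hnd e ?_), heu, hep⟩
  exact polar_eq_zero_of_span (span_orth hn h2 hu hp he' hpu heu hep) heu hep
    (by rw [polar_self2, hee, mul_zero])

/-- An orthogonal basis through an anisotropic vector. -/
lemma exists_orth (hnd : NDPolar Q) (hn : Fintype.card ι = 3) (h2 : (2 : F) ≠ 0) {u : ι → F}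
    (hu : Q u ≠ 0) :
    ∃ p e, Q p ≠ 0 ∧ Q e ≠ 0 ∧ polar Q p u = 0 ∧ polar Q e u = 0 ∧ polar Q e p = 0 := by
  obtain ⟨p, hp, hpu⟩ : ∃ p, Q p ≠ 0 ∧ polar Q p u = 0 := by
    by_contra hcon
    push Not at hcon
    replace hcon : ∀ p, polar Q p u = 0 → Q p = 0 := fun p h => by_contra fun h' => hcon p h' h
    obtain ⟨z, hz, hz0⟩ := LinSub.exists_dot_zero ![Om.dual (⇑Q) u] (![] : Fin 0 → ι → F) (by omega)
    have hzu : polar Q z u = 0 := by rw [← dual_dot' hnd u z]; exact hz 0
    suffices hall : ∀ y, polar Q z y = 0 by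
      exact hz0 (by rw [hnd z hall]; exact zero_mem _)
    intro y
    set y' := y - (polar Q y u / (2 * Q u)) • u
    have hy'u : polar Q y' u = 0 := by
      simp only [y', polar_sub_left, polar_smul_left, polar_self2, smul_eq_mul]
      field_simp
      ring
    have h1 : polar Q z y' = 0 := by
      rw [polar, hcon _ hzu, hcon _ hy'u, hcon _ (by rw [polar_add_left, hzu, hy'u, add_zero]),
        sub_zero, sub_zero]
    simpa [y', polar_sub_right, polar_smul_right, hzu] using h1
  obtain ⟨e, he, heu, hep⟩ := exists_third hnd hn h2 hu hp hpu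
  exact ⟨p, e, hp, he, hpu, heu, hep⟩

/-- A hyperbolic pair and an orthogonal vector through a singular point. -/
lemma exists_hyp (hnd : NDPolar Q) (hn : Fintype.card ι = 3) (h2 : (2 : F) ≠ 0) {u : ι → F}
    (hu : Q u = 0) (hu0 : u ≠ 0) :
    ∃ w e, Q w = 0 ∧ polar Q u w = 1 ∧ Q e ≠ 0 ∧ polar Q e u = 0 ∧ polar Q e w = 0 ∧
      Submodule.span F (Set.range ![u, w, e]) = ⊤ := by
  obtain ⟨y, hy⟩ : ∃ y, polar Q u y = 1 := by
    by_contra hcon
    push Not at hcon
    refine hu0 (hnd u fun y => by_contra fun h => hcon ((polar Q u y)⁻¹ • y) ?_)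
    rw [polar_smul_right, smul_eq_mul, inv_mul_cancel₀ h]
  set w := y - Q y • u with hw
  have hQw : Q w = 0 := by
    rw [hw, sub_eq_add_neg, ← neg_smul, QuadraticMap.map_add Q, QuadraticMap.map_smul,
      polar_smul_right, polar_comm, hy, hu]
    simp
  have huw : polar Q u w = 1 := by
    rw [hw, polar_sub_right, polar_smul_right, polar_self2, hu, hy]
    simp
  obtain ⟨e, he, he0⟩ := LinSub.exists_dot_zero ![Om.dual (⇑Q) u, Om.dual (⇑Q) w]
    (![] : Fin 0 → ι → F) (by omega)
  have heu : polar Q e u = 0 := by rw [← dual_dot' hnd u e]; exact he 0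
  have hew : polar Q e w = 0 := by rw [← dual_dot' hnd w e]; exact he 1
  have he' : e ≠ 0 := fun h => he0 (by rw [h]; exact zero_mem _)
  have hs : Submodule.span F (Set.range ![u, w, e]) = ⊤ := by
    refine LinearIndependent.span_eq_top_of_card_eq_finrank ?_
      (by rw [Fintype.card_fin, Module.finrank_fintype_fun_eq_card, hn])
    refine Fintype.linearIndependent_iff.2 fun c hc i => ?_
    rw [Fin.sum_univ_three] at hc
    simp only [Matrix.cons_val_zero, Matrix.cons_val_one, Matrix.cons_val] at hc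
    have h1 := congrArg (fun z => polar Q z w) hc
    have h3 := congrArg (fun z => polar Q z u) hc
    simp only [polar_add_left, polar_smul_left, polar_zero_left, polar_self2, hu, hQw, huw, heu,
      hew, polar_comm Q w u, smul_eq_mul, mul_zero, add_zero, zero_add, mul_one] at h1 h3
    rw [h1, h3, zero_smul, zero_smul, zero_add, zero_add, smul_eq_zero, or_iff_left he'] at hc
    fin_cases i <;> assumption
  refine ⟨w, e, hQw, huw, fun hee => he' (hnd e ?_), heu, hew, hs⟩
  exact polar_eq_zero_of_span hs heu hew (by rw [polar_self2, hee, mul_zero])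

variable [DecidableEq F]

/-- The half turn about an anisotropic vector. -/
noncomputable def nr (Q : QuadraticForm F (ι → F)) (c : ι → F) : GL ι F := scal (-1) * refl Q c

lemma nr_mulVec (hnd : NDPolar Q) (h2 : (2 : F) ≠ 0) {c : ι → F} (hc : Q c ≠ 0) (x : ι → F) :
    (nr Q c : Matrix ι ι F) *ᵥ x = (polar Q x c / Q c) • c - x := by
  rw [nr, gl_mulVec_mul, refl_mulVec hnd h2 hc, scal_mulVec, Units.val_neg, Units.val_one,
    neg_one_smul, neg_sub]

lemma nr_iso (hnd : NDPolar Q) (h2 : (2 : F) ≠ 0) {c : ι → F} (hc : Q c ≠ 0) (x : ι → F) :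
    Q ((nr Q c : Matrix ι ι F) *ᵥ x) = Q x := by
  rw [nr, gl_mulVec_mul, scal_mulVec, Units.val_neg, Units.val_one, neg_one_smul,
    QuadraticMap.map_neg, refl_iso hnd h2 hc]

variable {M : Subgroup (GL ι F)}

lemma nr_mem (hnd : NDPolar Q) (hn : Fintype.card ι = 3) (h2 : (2 : F) ≠ 0) (hSO : HasSO Q M)
    {c : ι → F} (hc : Q c ≠ 0) : nr Q c ∈ M := by
  refine hSO _ (nr_iso hnd h2 hc) (MonoidHom.mem_ker.2 (Units.ext ?_))
  rw [Matrix.GeneralLinearGroup.val_det_apply, nr, Units.val_mul, det_mul, refl_det hnd h2 hc, scal,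
    MonG.det_mon, Units.val_one]
  simp [hn]
  ring

lemma tq_iso (hnd : NDPolar Q) {h : GL ι F} (hiso : ∀ x, Q ((h : Matrix ι ι F) *ᵥ x) = Q x)
    (hh : h ∈ M) {v r : ι → F} (hvr : polar Q v r = 0) (ht : tq Q v r ∈ M) :
    tq Q ((h : Matrix ι ι F) *ᵥ v) ((h : Matrix ι ι F) *ᵥ r) ∈ M := by
  have hpol : ∀ x y, polar Q ((h : Matrix ι ι F) *ᵥ x) ((h : Matrix ι ι F) *ᵥ y) = polar Q x y :=
    fun x y => polar_of_iso (G := Matrix.mulVecLin (h : Matrix ι ι F)) hiso x y
  have : tq Q ((h : Matrix ι ι F) *ᵥ v) ((h : Matrix ι ι F) *ᵥ r) = h * tq Q v r * h⁻¹ := by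
    refine gl_ext_mulVec fun x => ?_
    rw [gl_mulVec_mul, gl_mulVec_mul, tq_mulVec hnd (by rw [hpol, hvr]), tq_mulVec hnd hvr,
      mulVec_add, mulVec_smul, gl_mulVec_inv_mulVec]
    conv_lhs => rw [← gl_mulVec_inv_mulVec h x, hpol]
    rw [gl_mulVec_inv_mulVec]
  rw [this]
  exact M.mul_mem (M.mul_mem hh ht) (M.inv_mem hh)

lemma conj_tq (hnd : NDPolar Q) {u a v b : ι → F} (hua : polar Q u a = 0) (hvb : polar Q v b = 0)
    (h1 : tq Q u a ∈ M) (h3 : tq Q v b ∈ M) :
    tq Q (v + polar Q v a • u) (b - polar Q u b • a) ∈ M ∧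
      polar Q (v + polar Q v a • u) (b - polar Q u b • a) = 0 := by
  have h0 : polar Q (v + polar Q v a • u) (b - polar Q u b • a) = 0 := by
    simp only [polar_add_left, polar_sub_right, polar_smul_left, polar_smul_right, hua, hvb,
      smul_eq_mul]
    ring
  refine ⟨?_, h0⟩
  have : tq Q (v + polar Q v a • u) (b - polar Q u b • a) = tq Q u a * tq Q v b * (tq Q u a)⁻¹ := by
    rw [eq_mul_inv_iff_mul_eq]
    refine gl_ext_mulVec fun x => ?_
    simp only [gl_mulVec_mul, tq_mulVec hnd h0, tq_mulVec hnd hua, tq_mulVec hnd hvb, polar_add_left,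
      polar_sub_right, polar_smul_left, polar_smul_right, hua, smul_eq_mul]
    match_scalars <;> ring
  rw [this]
  exact M.mul_mem (M.mul_mem h1 h3) (M.inv_mem h1)

/-- All transvections with centre `u` are in `M`, when the polar plane is good. -/
lemma centre_of_good [Fintype F] (hnd : NDPolar Q) (hn : Fintype.card ι = 3) (h2 : (2 : F) ≠ 0)
    (hSO : HasSO Q M) {u a : ι → F} (hu : Q u ≠ 0) (ha0 : a ≠ 0) (hua : polar Q u a = 0)
    (hm : tq Q u a ∈ M)
    (hgood : Q a ≠ 0 → ∃ e y, Q e ≠ 0 ∧ polar Q e u = 0 ∧ polar Q e a = 0 ∧ y ≠ 0 ∧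
      Q a + y * y * Q e ≠ 0) : u ∈ Unit.centres M := by
  classical
  let A : AddSubgroup (ι → F) :=
    { carrier := {b | polar Q u b = 0 ∧ tq Q u b ∈ M}
      add_mem' := fun {b c} hb hc => ⟨by rw [polar_add_right, hb.1, hc.1, add_zero], by
        rw [tq_add_right hnd hb.1 hc.1]; exact M.mul_mem hb.2 hc.2⟩
      zero_mem' := ⟨polar_zero_right Q u, by rw [tq_zero_right hnd]; exact M.one_mem⟩
      neg_mem' := fun {b} hb => ⟨by rw [← neg_one_smul F b, polar_smul_right, hb.1, smul_zero], by
        have h0 : polar Q u (-b) = 0 := by rw [← neg_one_smul F b, polar_smul_right, hb.1, smul_zero]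
        have : tq Q u (-b) = (tq Q u b)⁻¹ := by
          refine eq_inv_of_mul_eq_one_left ?_
          rw [← tq_add_right hnd h0 hb.1, neg_add_cancel, tq_zero_right hnd]
        rw [this]; exact M.inv_mem hb.2⟩ }
  have haA : a ∈ A := ⟨hua, hm⟩
  have hinv : ∀ c, Q c ≠ 0 → polar Q c u = 0 → ∀ b ∈ A, (nr Q c : Matrix ι ι F) *ᵥ b ∈ A := by
    intro c hc hcu b hb
    have hcu' : polar Q u c = 0 := by rw [polar_comm, hcu]
    have h1 := tq_iso hnd (nr_iso hnd h2 hc) (nr_mem hnd hn h2 hSO hc) hb.1 hb.2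
    have hhu : (nr Q c : Matrix ι ι F) *ᵥ u = (-1 : F) • u := by
      rw [nr_mulVec hnd h2 hc, hcu', zero_div, zero_smul, zero_sub, neg_one_smul]
    have h0 : polar Q u ((nr Q c : Matrix ι ι F) *ᵥ b) = 0 := by
      rw [nr_mulVec hnd h2 hc, polar_sub_right, polar_smul_right, hcu', smul_zero, hb.1, sub_zero]
    rw [hhu, tq_swap_smul hnd h0] at h1
    have h3 : (-1 : F) • ((nr Q c : Matrix ι ι F) *ᵥ b) ∈ A :=
      ⟨by rw [polar_smul_right, h0, smul_zero], h1⟩
    simpa using A.neg_mem h3
  -- an orthogonal basis of the polar plane, through `a` if possible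
  obtain ⟨p, e, hp, he, hpu, heu, hep, hpa⟩ : ∃ p e, Q p ≠ 0 ∧ Q e ≠ 0 ∧ polar Q p u = 0 ∧
      polar Q e u = 0 ∧ polar Q e p = 0 ∧ (Q a ≠ 0 → p = a) := by
    by_cases hQa : Q a = 0
    · obtain ⟨p, e, hp, he, hpu, heu, hep⟩ := exists_orth hnd hn h2 hu
      exact ⟨p, e, hp, he, hpu, heu, hep, fun h => absurd hQa h⟩
    · obtain ⟨e, y, he, heu, hea, -, -⟩ := hgood hQa
      exact ⟨a, e, hQa, he, by rw [polar_comm, hua], heu, hea, fun _ => rfl⟩
  have hdec : ∀ b, polar Q u b = 0 →
      b = (polar Q b p / (2 * Q p)) • p + (polar Q b e / (2 * Q e)) • e := by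
    intro b hb
    refine sub_eq_zero.1 (hnd _ (polar_eq_zero_of_span
      (span_orth hn h2 hu hp (fun h => he (by rw [h, QuadraticMap.map_zero])) hpu heu hep) ?_ ?_ ?_))
    · simp only [polar_sub_left, polar_add_left, polar_smul_left, hpu, heu, polar_comm Q b u, hb,
        smul_eq_mul]
      ring
    · simp only [polar_sub_left, polar_add_left, polar_smul_left, hep, polar_self2, smul_eq_mul]
      field_simp
      ring
    · simp only [polar_sub_left, polar_add_left, polar_smul_left, polar_comm Q p e, hep, polar_self2,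
        smul_eq_mul]
      field_simp
      ring
  -- the multipliers
  let K : Subring F :=
    { carrier := {s | ∀ b ∈ A, s • b ∈ A}
      mul_mem' := fun {s t} hs ht b hb => by rw [mul_smul]; exact hs _ (ht b hb)
      one_mem' := fun b hb => by rwa [one_smul]
      add_mem' := fun {s t} hs ht b hb => by rw [add_smul]; exact A.add_mem (hs b hb) (ht b hb)
      zero_mem' := fun b _ => by rw [zero_smul]; exact A.zero_mem
      neg_mem' := fun {s} hs b hb => by rw [neg_smul]; exact A.neg_mem (hs b hb) }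
  have hKinv : ∀ s ∈ K, s⁻¹ ∈ K := by
    intro s hs
    rcases eq_or_ne s 0 with rfl | h0
    · rw [_root_.inv_zero]; exact zero_mem K
    have h1 := FiniteField.pow_card_sub_one_eq_one s h0
    have hcard := Fintype.one_lt_card (α := F)
    rw [show Fintype.card F - 1 = (Fintype.card F - 2) + 1 by omega, pow_succ] at h1
    rw [← eq_inv_of_mul_eq_one_left h1]
    exact pow_mem hs _
  have hratio : ∀ y : F, 1 + (Q e / Q p) * (y * y) ∈ K := by
    intro y
    by_cases hD : Q p + y * y * Q e = 0
    · have : 1 + (Q e / Q p) * (y * y) = 0 := by field_simp; linear_combination hD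
      rw [this]; exact zero_mem K
    set c := p + y • e with hc
    have hQc : Q c = Q p + y * y * Q e := by
      rw [hc, QuadraticMap.map_add Q, QuadraticMap.map_smul, polar_smul_right, polar_comm Q p e, hep,
        smul_zero, add_zero, smul_eq_mul]
    have hc0 : Q c ≠ 0 := hQc ▸ hD
    have hcu : polar Q c u = 0 := by rw [hc, polar_add_left, polar_smul_left, hpu, heu, smul_zero, add_zero]
    have hs : 4 * Q p / Q c - 2 ∈ K := by
      intro b hb
      have h1 := hinv c hc0 hcu _ (hinv p hp hpu b hb)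
      have h3 := hinv p hp hpu _ (hinv c hc0 hcu b hb)
      have hsum := A.add_mem h1 h3
      convert hsum using 1
      simp only [nr_mulVec hnd h2 hp, nr_mulVec hnd h2 hc0]
      conv_lhs => rw [hdec b hb.1]
      conv_rhs => rw [hdec b hb.1]
      simp only [hc, polar_sub_left, polar_add_left, polar_add_right, polar_smul_left,
        polar_smul_right, polar_self2, hep, polar_comm Q p e, smul_eq_mul]
      rw [← hc, hQc]
      simp only [hc]
      have hD' : Q p + y ^ 2 * Q e ≠ 0 := by rwa [pow_two]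
      match_scalars <;> field_simp <;> ring
    have h4 : 4 * Q p / Q c ∈ K := by
      have := K.add_mem hs (K.add_mem K.one_mem K.one_mem)
      rwa [show (4 * Q p / Q c - 2) + (1 + 1) = 4 * Q p / Q c by ring] at this
    have h5 := K.mul_mem (hKinv _ h4) (natCast_mem K 4)
    have h44 : (4 : F) ≠ 0 := by
      rw [show (4 : F) = 2 * 2 by norm_num]; exact mul_ne_zero h2 h2
    convert h5 using 1
    rw [hQc]
    push_cast
    field_simp
  have hK : ∀ s : F, s ∈ K := by
    intro s
    set γ := Q e / Q p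
    have hγ : γ ≠ 0 := div_ne_zero he hp
    have h : ∀ y, γ * (y * y) ∈ K := fun y => by
      simpa using K.sub_mem (hratio y) K.one_mem
    have h4 := K.mul_mem (hKinv _ (natCast_mem K 4)) (K.sub_mem (h (s / γ + 1)) (h (s / γ - 1)))
    have h44 : (4 : F) ≠ 0 := by
      rw [show (4 : F) = 2 * 2 by norm_num]; exact mul_ne_zero h2 h2
    convert h4 using 1
    push_cast
    field_simp
    ring
  have hget : ∀ c, Q c ≠ 0 → polar Q c u = 0 → polar Q a c ≠ 0 → c ∈ A := by
    intro c hc hcu hac
    have h1 := A.add_mem (hinv c hc hcu a haA) haA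
    rw [nr_mulVec hnd h2 hc, sub_add_cancel] at h1
    have h3 := hK ((polar Q a c / Q c)⁻¹) _ h1
    rwa [inv_smul_smul₀ (div_ne_zero hac hc)] at h3
  have hmem : p ∈ A ∧ e ∈ A := by
    by_cases hQa : Q a = 0
    · have ha := hdec a hua
      have hne : polar Q a p ≠ 0 ∧ polar Q a e ≠ 0 := by
        constructor <;> intro h0 <;> rw [h0, zero_div, zero_smul] at ha
        · rw [zero_add] at ha
          have := congrArg Q ha
          rw [QuadraticMap.map_smul, hQa, smul_eq_mul, eq_comm, mul_eq_zero, or_iff_left he,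
            mul_self_eq_zero] at this
          exact ha0 (by rw [ha, this, zero_smul])
        · rw [add_zero] at ha
          have := congrArg Q ha
          rw [QuadraticMap.map_smul, hQa, smul_eq_mul, eq_comm, mul_eq_zero, or_iff_left hp,
            mul_self_eq_zero] at this
          exact ha0 (by rw [ha, this, zero_smul])
      exact ⟨hget p hp hpu hne.1, hget e he heu hne.2⟩
    · obtain rfl := hpa hQa
      refine ⟨haA, ?_⟩
      obtain ⟨e', y, he', he'u, he'a, hy, hD⟩ := hgood hQa
      have hy' : e' = (polar Q e' e / (2 * Q e)) • e := by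
        have := hdec e' (by rw [polar_comm, he'u])
        rwa [he'a, zero_div, zero_smul, zero_add] at this
      set k := polar Q e' e / (2 * Q e)
      have hc : p + y • e' = p + (y * k) • e := by rw [hy', mul_smul]
      have hQc : Q (p + y • e') = Q p + y * y * Q e' := by
        rw [QuadraticMap.map_add Q, QuadraticMap.map_smul, polar_smul_right, polar_comm Q p e', he'a,
          smul_zero, add_zero, smul_eq_mul]
      have h1 : p + y • e' ∈ A := hget _ (hQc ▸ hD)
        (by rw [polar_add_left, polar_smul_left, hpu, he'u, smul_zero, add_zero])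
        (by rw [polar_add_right, polar_smul_right, polar_comm Q p e', he'a, smul_zero, add_zero,
              polar_self2]; exact mul_ne_zero h2 hQa)
      have h3 := A.sub_mem h1 haA
      rw [hc, add_sub_cancel_left] at h3
      have hk : y * k ≠ 0 := mul_ne_zero hy fun h => he' (by rw [hy', h, zero_smul, QuadraticMap.map_zero])
      have := hK (y * k)⁻¹ _ h3
      rwa [inv_smul_smul₀ hk] at this
  intro φ hφ
  let L : (ι → F) →ₗ[F] F :=
    { toFun := fun x => φ ⬝ᵥ x
      map_add' := dotProduct_add φ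
      map_smul' := fun c x => dotProduct_smul c φ x }
  obtain ⟨r, hr⟩ := Classical.Quad.exists_polar hnd L
  have hr' : ∀ x, polar Q x r = φ ⬝ᵥ x := fun x => by
    first
      | exact hr x
      | rw [polar_comm]; exact hr x
  have hur : polar Q u r = 0 := (hr' u).trans hφ
  have hrA : r ∈ A := by
    rw [hdec r hur]
    exact A.add_mem (hK _ _ hmem.1) (hK _ _ hmem.2)
  have : tvGL u φ = tq Q u r := by
    refine gl_ext_mulVec fun x => ?_
    rw [tvGL_mulVec hφ, tq_mulVec hnd hur, hr']
  rw [this]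
  exact hrA.2

/-- One transvection with an anisotropic centre gives all transvections at some such centre. -/
lemma exists_centre [Fintype F] (hnd : NDPolar Q) (hn : Fintype.card ι = 3) (h2 : (2 : F) ≠ 0)
    (hSO : HasSO Q M) {u a : ι → F} (hu : Q u ≠ 0) (ha0 : a ≠ 0) (hua : polar Q u a = 0)
    (hm : tq Q u a ∈ M) : ∃ c, Q c ≠ 0 ∧ c ∈ Unit.centres M := by
  by_cases hgood : Q a ≠ 0 → ∃ e y, Q e ≠ 0 ∧ polar Q e u = 0 ∧ polar Q e a = 0 ∧ y ≠ 0 ∧
      Q a + y * y * Q e ≠ 0
  · exact ⟨u, hu, centre_of_good hnd hn h2 hSO hu ha0 hua hm hgood⟩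
  simp only [Classical.not_imp, not_exists] at hgood
  obtain ⟨hQa, hbad⟩ := hgood
  obtain ⟨e, he, heu, hea⟩ := exists_third hnd hn h2 hu hQa (by rw [polar_comm, hua])
  have hall : ∀ y : F, y ≠ 0 → Q a + y * y * Q e = 0 := fun y hy => by
    by_contra h
    exact hbad e y ⟨he, heu, hea, hy, h⟩
  have hea' : Q e = -Q a := by
    have := hall 1 one_ne_zero
    linear_combination this
  have hsq : ∀ y : F, y ≠ 0 → y * y = 1 := fun y hy => by
    have h := hall y hy
    rw [hea'] at h
    have : Q a * (1 - y * y) = 0 := by linear_combination h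
    linear_combination -((mul_eq_zero.1 this).resolve_left hQa)
  have h3 : (3 : F) = 0 := by linear_combination hsq 2 h2
  have h2a : (2 : F) * Q a ≠ 0 := mul_ne_zero h2 hQa
  rcases mul_self_eq_mul_self_iff.1 ((hsq _ hu).trans (hsq _ hQa).symm) with hua' | hua'
  · -- exchange the centre and the axis, and conjugate
    set c := u + a with hc
    have hQc : Q c = 2 * Q a := by rw [hc, QuadraticMap.map_add Q, hua, hua']; ring
    have hc0 : Q c ≠ 0 := hQc ▸ h2a
    have hcu : (nr Q c : Matrix ι ι F) *ᵥ u = a := by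
      rw [nr_mulVec hnd h2 hc0, hQc, hc, polar_add_right, hua, polar_self2, add_zero, hua',
        div_self h2a, one_smul, add_sub_cancel_left]
    have hca : (nr Q c : Matrix ι ι F) *ᵥ a = u := by
      rw [nr_mulVec hnd h2 hc0, hQc, hc, polar_add_right, polar_comm Q a u, hua, polar_self2,
        zero_add, div_self h2a, one_smul, add_sub_cancel_right]
    have hau : tq Q a u ∈ M := by
      have := tq_iso hnd (nr_iso hnd h2 hc0) (nr_mem hnd hn h2 hSO hc0) hua hm
      rwa [hcu, hca] at this
    obtain ⟨hm', h0⟩ := conj_tq hnd hua (by rw [polar_comm, hua]) hm hau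
    rw [polar_self2, polar_self2] at hm' h0
    set u' := a + (2 * Q a) • u with hu'
    set a' := u - (2 * Q u) • a with ha'
    have hQu' : Q u' = -Q a := by
      rw [hu', QuadraticMap.map_add Q, QuadraticMap.map_smul, polar_smul_right, polar_comm Q a u,
        hua, smul_zero, add_zero, hua', smul_eq_mul]
      linear_combination (4 * Q a) * hsq _ hQa + 2 * Q a * h3
    have hQa' : Q a' = -Q a := by
      rw [ha', sub_eq_add_neg, ← neg_smul, QuadraticMap.map_add Q, QuadraticMap.map_smul,
        polar_smul_right, hua, smul_zero, add_zero, hua', smul_eq_mul]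
      linear_combination (4 * Q a) * hsq _ hQa + 2 * Q a * h3
    refine ⟨u', by rw [hQu']; exact neg_ne_zero.2 hQa,
      centre_of_good hnd hn h2 hSO (by rw [hQu']; exact neg_ne_zero.2 hQa) (fun h => ?_) h0 hm'
        fun _ => ⟨e, 1, he, ?_, ?_, one_ne_zero, ?_⟩⟩
    · rw [h, QuadraticMap.map_zero, eq_comm, neg_eq_zero] at hQa'
      exact hQa hQa'
    · rw [hu', polar_add_right, polar_smul_right, hea, heu, smul_zero, add_zero]
    · rw [ha', polar_sub_right, polar_smul_right, hea, heu, smul_zero, sub_zero]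
    · rw [hQa', hea']
      intro h
      exact h2a (by linear_combination -h)
  · -- a second transvection with the same axis
    have hue : Q u = Q e := by rw [hea', hua']
    set c := u + e with hc
    have hue0 : polar Q u e = 0 := by rw [polar_comm, heu]
    have hae0 : polar Q a e = 0 := by rw [polar_comm, hea]
    have hQc : Q c = 2 * Q u := by rw [hc, QuadraticMap.map_add Q, hue0, ← hue]; ring
    have h2u : (2 : F) * Q u ≠ 0 := mul_ne_zero h2 hu
    have hc0 : Q c ≠ 0 := hQc ▸ h2u
    have hcu : (nr Q c : Matrix ι ι F) *ᵥ u = e := by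
      rw [nr_mulVec hnd h2 hc0, hQc, hc, polar_add_right, hue0, polar_self2, add_zero,
        div_self h2u, one_smul, add_sub_cancel_left]
    have hca : (nr Q c : Matrix ι ι F) *ᵥ a = (-1 : F) • a := by
      rw [nr_mulVec hnd h2 hc0, hc, polar_add_right, hae0, polar_comm Q a u, hua, add_zero, zero_div,
        zero_smul, zero_sub, neg_one_smul]
    have hea0 : polar Q ((-1 : F) • e) a = 0 := by rw [polar_smul_left, hea, smul_zero]
    have hm1 : tq Q ((-1 : F) • e) a ∈ M := by
      have := tq_iso hnd (nr_iso hnd h2 hc0) (nr_mem hnd hn h2 hSO hc0) hua hm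
      rw [hcu, hca] at this
      rwa [tq_swap_smul hnd hea]
    have hm2 : tq Q (u + (-1 : F) • e) a ∈ M := by
      rw [tq_add_left hnd hua hea0]; exact M.mul_mem hm hm1
    have hQ' : Q (u + (-1 : F) • e) = 2 * Q u := by
      rw [QuadraticMap.map_add Q, QuadraticMap.map_smul, polar_smul_right, hue0, ← hue, smul_zero,
        add_zero, smul_eq_mul]
      ring
    have hQ'0 : Q (u + (-1 : F) • e) ≠ 0 := hQ' ▸ h2u
    refine ⟨_, hQ'0, centre_of_good hnd hn h2 hSO hQ'0 ha0
      (by rw [polar_add_left, hua, hea0, add_zero]) hm2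
      fun _ => ⟨u + e, 1, hc0, ?_, ?_, one_ne_zero, ?_⟩⟩
    · simp only [polar_add_left, polar_add_right, polar_smul_right, polar_self2, hue0, heu,
        smul_eq_mul]
      rw [hue]; ring
    · rw [polar_add_left, hua, hea, add_zero]
    · rw [show Q (u + e) = 2 * Q u from hQc, hua']
      intro h
      exact hQa (by linear_combination -h)

/-- One transvection gives the special linear group. -/
theorem sl_le_of_tv [Fintype F] (hnd : NDPolar Q) (hn : Fintype.card ι = 3) (h2 : (2 : F) ≠ 0)
    (hSO : HasSO Q M) {u a : ι → F} (hu0 : u ≠ 0) (ha0 : a ≠ 0) (hua : polar Q u a = 0)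
    (hm : tq Q u a ∈ M) : specialLinear ι F ≤ M := by
  obtain ⟨u₁, a₁, hu₁, ha₁, hua₁, hm₁⟩ : ∃ u₁ a₁, Q u₁ ≠ 0 ∧ a₁ ≠ 0 ∧ polar Q u₁ a₁ = 0 ∧
      tq Q u₁ a₁ ∈ M := by
    by_cases hu : Q u = 0
    swap
    · exact ⟨u, a, hu, ha0, hua, hm⟩
    obtain ⟨w₀, e, hw₀, huw₀, he, heu, hew₀, hs⟩ := exists_hyp hnd hn h2 hu hu0
    obtain ⟨w, hw, huw, hwa⟩ : ∃ w, Q w = 0 ∧ polar Q u w = 1 ∧ polar Q w a ≠ 0 := by
      by_cases h0 : polar Q w₀ a = 0
      swap
      · exact ⟨w₀, hw₀, huw₀, h0⟩
      refine ⟨w₀ + (e + (-Q e) • u), ?_, ?_, fun h => ha0 (hnd a ?_)⟩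
      · simp only [QuadraticMap.map_add Q, QuadraticMap.map_smul, polar_add_right, polar_smul_right,
          hw₀, hu, heu, polar_comm Q w₀ e, hew₀, polar_comm Q w₀ u, huw₀, smul_eq_mul]
        ring
      · simp only [polar_add_right, polar_smul_right, huw₀, polar_comm Q u e, heu, polar_self2, hu,
          smul_eq_mul]
        ring
      · simp only [polar_add_left, polar_smul_left, hua, h0, smul_eq_mul, mul_zero, add_zero,
          zero_add] at h
        exact polar_eq_zero_of_span hs (by rw [polar_comm, hua]) (by rw [polar_comm, h0])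
          (by rw [polar_comm, h])
    have hc : Q (u + w) = 1 := by rw [QuadraticMap.map_add Q, hu, hw, huw, zero_add, zero_add]
    have hc0 : Q (u + w) ≠ 0 := hc ▸ one_ne_zero
    set k := nr Q (u + w)
    have hku : (k : Matrix ι ι F) *ᵥ u = w := by
      rw [nr_mulVec hnd h2 hc0, hc, polar_add_right, huw, polar_self2, hu, mul_zero, zero_add,
        div_one, one_smul, add_sub_cancel_left]
    have hpol : ∀ x y, polar Q ((k : Matrix ι ι F) *ᵥ x) ((k : Matrix ι ι F) *ᵥ y) = polar Q x y :=
      fun x y => polar_of_iso (G := Matrix.mulVecLin (k : Matrix ι ι F)) (nr_iso hnd h2 hc0) x y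
    set a' := (k : Matrix ι ι F) *ᵥ a with ha'
    have hwa' : polar Q w a' = 0 := by rw [← hku, ha', hpol, hua]
    have hm' : tq Q w a' ∈ M := by
      rw [← hku]; exact tq_iso hnd (nr_iso hnd h2 hc0) (nr_mem hnd hn h2 hSO hc0) hua hm
    obtain ⟨hm2, h0⟩ := conj_tq hnd hua hwa' hm hm'
    refine ⟨_, _, ?_, fun e0 => ?_, h0, hm2⟩
    · rw [QuadraticMap.map_add Q, QuadraticMap.map_smul, polar_smul_right, polar_comm Q w u, huw, hu,
        hw]
      simpa using hwa
    · have h1 := congrArg (fun z => polar Q w z) e0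
      simp only [polar_sub_right, polar_smul_right, hwa', polar_zero_right, smul_eq_mul, zero_sub,
        neg_eq_zero, mul_eq_zero, hwa, or_false] at h1
      rw [h1, zero_smul, sub_zero] at e0
      exact gl_mulVec_ne_zero k ha0 e0
  obtain ⟨c₀, hc₀, hC⟩ := exists_centre hnd hn h2 hSO hu₁ ha₁ hua₁ hm₁
  have hmove : ∀ c, Q c ≠ 0 → polar Q c₀ c ≠ 0 → c ∈ Unit.centres M := by
    intro c hc hcc
    have h1 := Submodule.add_mem _ (Unit.mulVec_mem_centres (nr_mem hnd hn h2 hSO hc) hC) hC
    rw [nr_mulVec hnd h2 hc, sub_add_cancel] at h1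
    exact (Submodule.smul_mem_iff _ (div_ne_zero hcc hc)).1 h1
  obtain ⟨p, e, hp, he, hpu, heu, hep⟩ := exists_orth hnd hn h2 hc₀
  have hpu' : polar Q c₀ p = 0 := by rw [polar_comm, hpu]
  have heu' : polar Q c₀ e = 0 := by rw [polar_comm, heu]
  have hpe' : polar Q p e = 0 := by rw [polar_comm, hep]
  have h4 : (2 : F) * Q c₀ ≠ 0 := mul_ne_zero h2 hc₀
  have hone : ∀ z z' : ι → F, Q z ≠ 0 → Q z' ≠ 0 → polar Q c₀ z = 0 → polar Q c₀ z' = 0 →
      polar Q z z' = 0 → z ∈ Unit.centres M ∨ (Q c₀ + Q z = 0 ∧ c₀ + z + z' ∈ Unit.centres M ∧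
        c₀ - z + z' ∈ Unit.centres M) := by
    intro z z' hz hz' hcz hcz' hzz
    by_cases hsum : Q c₀ + Q z = 0
    · right
      refine ⟨hsum, hmove _ ?_ ?_, hmove _ ?_ ?_⟩
      · simp only [QuadraticMap.map_add Q, polar_add_left, hcz, hcz', hzz, add_zero]
        rw [hsum, zero_add]; exact hz'
      · simp only [polar_add_right, polar_self2, hcz, hcz', add_zero]; exact h4
      · simp only [sub_eq_add_neg, ← neg_one_smul F z, QuadraticMap.map_add Q, QuadraticMap.map_smul,
          polar_add_left, polar_smul_left, polar_smul_right, hcz, hcz', hzz, smul_eq_mul, mul_zero,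
          add_zero, neg_mul_neg, one_mul]
        rw [hsum, zero_add]; exact hz'
      · simp only [sub_eq_add_neg, ← neg_one_smul F z, polar_add_right, polar_smul_right, polar_self2,
          hcz, hcz', smul_eq_mul, mul_zero, add_zero]
        exact h4
    · left
      have h1 := hmove (c₀ + z) (by rw [QuadraticMap.map_add Q, hcz, add_zero]; exact hsum)
        (by rw [polar_add_right, hcz, polar_self2, add_zero]; exact h4)
      simpa using Submodule.sub_mem _ h1 hC
  have hfour : ∀ z z' : ι → F, Q z ≠ 0 → Q z' ≠ 0 → polar Q c₀ z = 0 → polar Q c₀ z' = 0 →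
      polar Q z z' = 0 → z ∈ Unit.centres M := by
    intro z z' hz hz' hcz hcz' hzz
    rcases hone z z' hz hz' hcz hcz' hzz with h | ⟨-, h, h'⟩
    · exact h
    · have h1 := Submodule.sub_mem _ h h'
      rw [show c₀ + z + z' - (c₀ - z + z') = (2 : F) • z by module] at h1
      exact (Submodule.smul_mem_iff _ h2).1 h1
  have hCtop : Unit.centres M = ⊤ := by
    rw [eq_top_iff, ← span_orth hn h2 hc₀ hp (fun h => he (by rw [h, QuadraticMap.map_zero])) hpu heu hep,
      Submodule.span_le]
    rintro _ ⟨i, rfl⟩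
    fin_cases i
    exacts [hC, hfour p e hp he hpu' heu' hpe', hfour e p he hp heu' hpu' hep]
  exact sl_le_of_tvGL fun w φ hφ => (hCtop ▸ Submodule.mem_top : w ∈ Unit.centres M) φ hφ

/-- Half turns of two forms about one anisotropic point. -/
lemma polar_ratio (hnd : NDPolar Q) {G : QuadraticForm F (ι → F)} (hndG : NDPolar G)
    (hn : Fintype.card ι = 3) (h2 : (2 : F) ≠ 0) (hSO : HasSO Q M) (hSG : HasSO G M)
    (hno : ∀ u φ : ι → F, u ≠ 0 → φ ⬝ᵥ u = 0 → tvGL u φ ∈ M → φ = 0)
    {c : ι → F} (hQc : Q c ≠ 0) (hGc : G c ≠ 0) (x : ι → F) :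
    polar G x c = G c / Q c * polar Q x c := by
  have hc0 : c ≠ 0 := fun e => hQc (by rw [e, QuadraticMap.map_zero])
  set φ := (G c)⁻¹ • Om.dual (⇑G) c - (Q c)⁻¹ • Om.dual (⇑Q) c with hφ
  have hφx : ∀ y, φ ⬝ᵥ y = polar G y c / G c - polar Q y c / Q c := fun y => by
    rw [hφ, sub_dotProduct, smul_dotProduct, smul_dotProduct, dual_dot' hndG, dual_dot' hnd,
      smul_eq_mul, smul_eq_mul, div_eq_inv_mul, div_eq_inv_mul]
  have hφc : φ ⬝ᵥ c = 0 := by
    rw [hφx, polar_self2, polar_self2]
    field_simp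
    ring
  have hm : tvGL c φ ∈ M := by
    have : tvGL c φ = nr Q c * nr G c := by
      refine gl_ext_mulVec fun y => ?_
      simp only [gl_mulVec_mul, nr_mulVec hnd h2 hQc, nr_mulVec hndG h2 hGc, tvGL_mulVec hφc, hφx,
        polar_sub_left, polar_smul_left, polar_self2, smul_eq_mul]
      match_scalars <;> field_simp <;> ring
    rw [this]
    exact M.mul_mem (nr_mem hnd hn h2 hSO hQc) (nr_mem hndG hn h2 hSG hGc)
  have h0 := hφx x
  rw [hno c φ hc0 hφc hm, zero_dotProduct] at h0
  field_simp at h0 ⊢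
  linear_combination -h0

/-- A half turn about a singular point gives a transvection. -/
lemma singular_agree (hnd : NDPolar Q) {G : QuadraticForm F (ι → F)} (hndG : NDPolar G)
    (hn : Fintype.card ι = 3) (h2 : (2 : F) ≠ 0) (hSO : HasSO Q M) (hSG : HasSO G M)
    (hno : ∀ u φ : ι → F, u ≠ 0 → φ ⬝ᵥ u = 0 → tvGL u φ ∈ M → φ = 0)
    {c : ι → F} (hQc : Q c = 0) : G c = 0 := by
  by_contra hGc
  have hc0 : c ≠ 0 := fun e => hGc (by rw [e, QuadraticMap.map_zero])
  obtain ⟨w, p, -, -, hp, hpc, -, -⟩ := exists_hyp hnd hn h2 hQc hc0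
  have hcp : polar Q c p = 0 := by rw [polar_comm, hpc]
  have hQp' : Q (p + c) = Q p := by rw [QuadraticMap.map_add Q, hQc, hpc, add_zero, add_zero]
  set k := nr Q (p + c) * nr Q p with hk
  have hkM : k ∈ M := M.mul_mem (nr_mem hnd hn h2 hSO (hQp'.symm ▸ hp)) (nr_mem hnd hn h2 hSO hp)
  have hkc : (k : Matrix ι ι F) *ᵥ c = c := by
    rw [hk, gl_mulVec_mul, nr_mulVec hnd h2 hp, hcp, zero_div, zero_smul, zero_sub, mulVec_neg,
      nr_mulVec hnd h2 (hQp'.symm ▸ hp), polar_add_right, hcp, polar_self2, hQc]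
    simp
  have hkp : (k : Matrix ι ι F) *ᵥ p = p + (2 : F) • c := by
    rw [hk, gl_mulVec_mul, nr_mulVec hnd h2 hp, polar_self2, mul_div_assoc, div_self hp, mul_one,
      show (2 : F) • p - p = p by module, nr_mulVec hnd h2 (hQp'.symm ▸ hp), polar_add_right, hpc,
      polar_self2, add_zero, hQp', mul_div_assoc, div_self hp, mul_one]
    module
  set lam := (G c)⁻¹ • Om.dual (⇑G) c with hlam
  have hlx : ∀ y, lam ⬝ᵥ y = polar G y c / G c := fun y => by
    rw [hlam, smul_dotProduct, dual_dot' hndG, smul_eq_mul, div_eq_inv_mul]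
  set φ := lam ᵥ* ((k⁻¹ : GL ι F) : Matrix ι ι F) - lam with hφ
  have hkc' : ((k⁻¹ : GL ι F) : Matrix ι ι F) *ᵥ c = c := by
    conv_lhs => rw [← hkc]
    rw [gl_inv_mulVec_mulVec]
  have hφx : ∀ y, φ ⬝ᵥ y = polar G (((k⁻¹ : GL ι F) : Matrix ι ι F) *ᵥ y) c / G c
      - polar G y c / G c := fun y => by
    rw [hφ, sub_dotProduct, vecMul_inv_dot, hlx, hlx]
  have hφc : φ ⬝ᵥ c = 0 := by rw [hφx, hkc', sub_self]
  have hh := nr_mem hndG hn h2 hSG hGc
  have hm : tvGL c φ ∈ M := by
    have : tvGL c φ = nr G c * (k * nr G c * k⁻¹) := by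
      refine gl_ext_mulVec fun y => ?_
      simp only [gl_mulVec_mul, tvGL_mulVec hφc, hφx, nr_mulVec hndG h2 hGc, mulVec_sub, mulVec_smul,
        hkc, gl_mulVec_inv_mulVec, polar_sub_left, polar_smul_left, polar_self2, smul_eq_mul]
      match_scalars <;> field_simp <;> ring
    rw [this]
    exact M.mul_mem hh (M.mul_mem (M.mul_mem hkM hh) (M.inv_mem hkM))
  have h0 := hφx ((k : Matrix ι ι F) *ᵥ p)
  rw [hno c φ hc0 hφc hm, zero_dotProduct, gl_inv_mulVec_mulVec, hkp, polar_add_left, polar_smul_left,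
    polar_self2, smul_eq_mul] at h0
  field_simp at h0
  exact mul_ne_zero (mul_ne_zero h2 h2) hGc (by linear_combination h0)

omit [DecidableEq F] in
/-- Orthogonal similarities form a maximal subgroup of the special linear group, dimension three. -/
theorem similarity_maximal [Fintype F] (hnd : NDPolar Q) (h2 : (2 : F) ≠ 0)
    (hn : Fintype.card ι = 3) :
    IsMaximalIn (specialLinear ι F) (quadSimilarityGroup ⇑Q ⊓ specialLinear ι F) := by
  classical
  obtain ⟨i⟩ : Nonempty ι := Fintype.card_pos_iff.1 (by omega)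
  obtain ⟨u, hu⟩ : ∃ u, Q u ≠ 0 := by
    by_contra hcon
    push Not at hcon
    exact one_ne_zero (α := F) (by
      simpa using congrFun (hnd (Pi.single i 1) fun y => by simp [polar, hcon]) i)
  obtain ⟨p, e, hp, he, hpu, heu, hep⟩ := exists_orth hnd hn h2 hu
  refine CfsgLib.ClassicalMax.isMaximalIn_of inf_le_right ?_ fun M hHM hMK g hgM hgH => ?_
  · have hup : polar Q u p = 0 := by rw [polar_comm, hpu]
    refine ⟨tq Q u p, tvGL_mem_sl _ _, fun h => ?_⟩
    obtain ⟨c, hc⟩ := h.1
    have h1 := hc u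
    have h3 := hc p
    rw [tq_mulVec hnd hup, hup, zero_smul, add_zero] at h1
    rw [tq_mulVec hnd hup, polar_self2, QuadraticMap.map_add Q, QuadraticMap.map_smul,
      polar_smul_right, hpu, smul_zero, add_zero, smul_eq_mul] at h3
    have hc1 : (c : F) = 1 := mul_right_cancel₀ hu (h1.symm.trans (one_mul _).symm)
    rw [hc1] at h3
    exact mul_ne_zero (mul_ne_zero (mul_ne_zero h2 hp) (mul_ne_zero h2 hp)) hu
      (by linear_combination h3)
  by_contra hSL
  have hSO : HasSO Q M := fun h hh hsl =>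
    hHM ⟨⟨1, fun x => by rw [Units.val_one, one_mul]; exact hh x⟩, hsl⟩
  have hno : ∀ u φ : ι → F, u ≠ 0 → φ ⬝ᵥ u = 0 → tvGL u φ ∈ M → φ = 0 := by
    intro u φ hu0 hφu hm
    by_contra hφ
    let L : (ι → F) →ₗ[F] F :=
      { toFun := fun x => φ ⬝ᵥ x
        map_add' := dotProduct_add φ
        map_smul' := fun c x => dotProduct_smul c φ x }
    obtain ⟨r, hr⟩ := Classical.Quad.exists_polar hnd L
    have hr' : ∀ x, polar Q x r = φ ⬝ᵥ x := fun x => by
      first
        | exact hr x
        | rw [polar_comm]; exact hr x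
    have hur : polar Q u r = 0 := (hr' u).trans hφu
    have : tvGL u φ = tq Q u r := by
      refine gl_ext_mulVec fun x => ?_
      rw [tvGL_mulVec hφu, tq_mulVec hnd hur, hr']
    refine hSL (sl_le_of_tv hnd hn h2 hSO hu0 (fun e => hφ (dotProduct_eq _ _ fun x => ?_)) hur
      (this ▸ hm))
    rw [zero_dotProduct, ← hr', e, polar_zero_right]
  set G := pull Q g
  have hndG : NDPolar G := pull_nd hnd g
  have hSG : HasSO G M := hasSO_pull hSO hgM
  have hzero : ∀ c, Q c ≠ 0 → G c ≠ 0 := fun c hc hG =>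
    hc (singular_agree hndG hnd hn h2 hSG hSO hno hG)
  set r : (ι → F) → F := fun c => G c / Q c
  have hrat : ∀ c, Q c ≠ 0 → ∀ x, polar G x c = r c * polar Q x c := fun c hc x =>
    polar_ratio hnd hndG hn h2 hSO hSG hno hc (hzero c hc) x
  -- the ratios agree
  have key : ∀ a z, Q a ≠ 0 → Q (a + z) ≠ 0 → polar Q a z = 0 → polar G a z = 0 →
      r (a + z) = r a := by
    intro a z ha haz h1 h3
    have e1 := hrat _ haz a
    rw [polar_add_right, polar_add_right, h1, h3, hrat a ha a, add_zero, add_zero] at e1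
    exact mul_right_cancel₀ (by rw [polar_self2]; exact mul_ne_zero h2 ha) e1.symm
  have horth : ∀ a b, Q b ≠ 0 → polar Q a b = 0 → polar G a b = 0 := fun a b hb h => by
    rw [hrat b hb, h, mul_zero]
  have hup : polar Q u p = 0 := by rw [polar_comm, hpu]
  have hue : polar Q u e = 0 := by rw [polar_comm, heu]
  have hpe : polar Q p e = 0 := by rw [polar_comm, hep]
  obtain ⟨hrp, hre⟩ : r p = r u ∧ r e = r u := by
    by_cases h3 : Q (u + (p + e)) = 0
    · have hsum : Q u + Q p + Q e = 0 := by
        simp only [QuadraticMap.map_add Q, polar_add_right, hup, hue, hpe] at h3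
        linear_combination h3
      have pair : ∀ a b d, Q a ≠ 0 → Q b ≠ 0 → Q d ≠ 0 → polar Q a b = 0 → Q a + Q b + Q d = 0 →
          r a = r b := by
        intro a b d ha hb hd hab hs
        have hab' : Q (a + b) ≠ 0 := by
          rw [QuadraticMap.map_add Q, hab, add_zero]
          intro h
          exact hd (by linear_combination hs - h)
        have e1 := key a b ha hab' hab (horth a b hb hab)
        have e2 := key b a hb (by rwa [add_comm]) (by rw [polar_comm, hab])
          (by rw [polar_comm]; exact horth a b hb hab)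
        rw [add_comm] at e2
        exact e1.symm.trans e2
      exact ⟨pair p u e hp hu he hpu (by linear_combination hsum),
        pair e u p he hu hp heu (by linear_combination hsum)⟩
    · have hu' := key u (p + e) hu h3 (by rw [polar_add_right, hup, hue, add_zero])
        (by rw [polar_add_right, horth u p hp hup, horth u e he hue, add_zero])
      have hp' := key p (u + e) hp (by rwa [show p + (u + e) = u + (p + e) by abel])
        (by rw [polar_add_right, hpu, hpe, add_zero])
        (by rw [polar_add_right, horth p u hu hpu, horth p e he hpe, add_zero])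
      have he' := key e (u + p) he (by rwa [show e + (u + p) = u + (p + e) by abel])
        (by rw [polar_add_right, heu, hep, add_zero])
        (by rw [polar_add_right, horth e u hu heu, horth e p hp hep, add_zero])
      rw [show p + (u + e) = u + (p + e) by abel] at hp'
      rw [show e + (u + p) = u + (p + e) by abel] at he'
      exact ⟨hp'.symm.trans hu', he'.symm.trans hu'⟩
  have hall : ∀ x, G x = r u * Q x := by
    intro x
    have hy : x ∈ Submodule.span F (Set.range ![u, p, e]) := by
      rw [span_orth hn h2 hu hp (fun h => he (by rw [h, QuadraticMap.map_zero])) hpu heu hep]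
      trivial
    have hpol : polar G x x = r u * polar Q x x := by
      suffices ∀ z, polar G z x = r u * polar Q z x from this x
      induction hy using Submodule.span_induction with
      | mem z hz =>
        obtain ⟨j, rfl⟩ := hz
        fin_cases j
        · exact hrat u hu
        · exact hrp ▸ hrat p hp
        · exact hre ▸ hrat e he
      | zero => intro z; rw [polar_zero_right, polar_zero_right, mul_zero]
      | add a b _ _ ha hb => intro z; rw [polar_add_right, polar_add_right, ha, hb, mul_add]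
      | smul t a _ ha =>
        intro z; rw [polar_smul_right, polar_smul_right, ha, smul_eq_mul, smul_eq_mul]; ring
    rw [polar_self2, polar_self2] at hpol
    exact mul_left_cancel₀ h2 (by linear_combination hpol)
  have hr0 : r u ≠ 0 := div_ne_zero (hzero u hu) hu
  exact hgH ⟨⟨Units.mk0 _ hr0, fun x => hall x⟩, hMK hgM⟩

end CfsgLib.ClassicalMax.SL3Geo.QuadThree
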