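/-
Subfield groups are maximal in the special linear group of dimension three. If no transvection group
is enlarged, the images of the rational transvections have centres on no rational line; two of them in
the same coset of the subfield group, with the same class of scalars, would be equal, and counting
gives four in one coset.
-/
import Cfsg.Agent.Lib.ClassicalMax.LinSubfield
import Cfsg.Agent.Lib.ClassicalMax.SympTools
set_option autoImplicit false
set_option maxHeartbeats 1000000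

namespace CfsgLib.ClassicalMax.SL3Geo.SubThree

open Matrix Cfsg.Geo
open CfsgLib.ClassicalMax.LinSub (cv cv_add cv_sub cv_smul cv_zero cv_ne_zero cv_single cv_dot cv_mulVec
  ratVec_one Contains Good dot_cv_zero exists_dot exists_dot_zero li_pair conj_tv comm_tv_left comm_tv_right
  IsRat isRat_of_forall mem_sub_one_iff exists_rat_matrix vecMul_tvGL)

variable {ι : Type} [Fintype ι] [DecidableEq ι] {F : Type*} [Field F] {F₀ : Subfield F}

/-- A non-zero vector orthogonal to two given ones. -/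
lemma exists_perp_two {K : Type*} [Field K] (hn : 2 < Fintype.card ι) (a b : ι → K) :
    ∃ r, (∀ i, ![a, b] i ⬝ᵥ r = 0) ∧ r ≠ 0 := by
  obtain ⟨r, hr, hr'⟩ := exists_dot_zero ![a, b] (![] : Fin 0 → ι → K) (by omega)
  exact ⟨r, hr, fun e => hr' (by rw [e]; exact zero_mem _)⟩

variable [DecidableEq F] {M : Subgroup (GL ι F)}

lemma change_functional (hM : Contains F₀ M) (hn : 2 < Fintype.card ι) {b : F} {v φ : ι → F₀}
    (hφ : φ ≠ 0) (hφv : φ ⬝ᵥ v = 0) (h : tvGL (b • cv v) (cv φ) ∈ M) {χ : ι → F₀}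
    (hχv : χ ⬝ᵥ v = 0) : tvGL (b • cv v) (cv χ) ∈ M := by
  have key : ∀ φ χ : ι → F₀, φ ≠ 0 → φ ⬝ᵥ v = 0 → χ ⬝ᵥ v = 0 → χ ∉ Submodule.span F₀ {φ} →
      tvGL (b • cv v) (cv φ) ∈ M → tvGL (b • cv v) (cv χ) ∈ M := by
    intro φ χ hφ hφv hχv hnot h
    obtain ⟨w, hw⟩ := exists_dot (li_pair hφ hnot) ![1, 0]
    have hS := hM w χ (hw 1)
    have := M.mul_mem (M.mul_mem (M.mul_mem h hS) (M.inv_mem h)) (M.inv_mem hS)
    rwa [comm_tv_left (dot_cv_zero hφv b) (by rw [cv_dot, show χ ⬝ᵥ w = 0 from hw 1]; simp)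
      (dot_cv_zero hχv b), cv_dot, show φ ⬝ᵥ w = 1 from hw 0, Subfield.coe_one, one_smul] at this
  by_cases hnot : χ ∈ Submodule.span F₀ {φ}
  · by_cases hχ : χ = 0
    · rw [hχ, cv_zero, tvGL_zero_right]; exact M.one_mem
    obtain ⟨χ', hχ', hχ''⟩ := exists_dot_zero ![v] ![φ] (by omega)
    rw [Matrix.range_cons, Matrix.range_empty, Set.union_empty] at hχ''
    have hχ'v : χ' ⬝ᵥ v = 0 := by rw [dotProduct_comm]; exact hχ' 0
    have hne : χ' ≠ 0 := fun e => hχ'' (by rw [e]; exact zero_mem _)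
    refine key χ' χ hne hχ'v hχv (fun hmem => hχ'' ?_) (key φ χ' hφ hφv hχ'v hχ'' h)
    obtain ⟨c, rfl⟩ := Submodule.mem_span_singleton.1 hmem
    have hc : c ≠ 0 := fun e => hχ (by rw [e, zero_smul])
    exact (Submodule.smul_mem_iff _ hc).1 hnot
  · exact key φ χ hφ hφv hχv hnot h

lemma change_vector (hM : Contains F₀ M) (hn : 2 < Fintype.card ι) {b : F} {v φ : ι → F₀}
    (hv : v ≠ 0) (hφv : φ ⬝ᵥ v = 0) (h : tvGL (b • cv v) (cv φ) ∈ M) {w : ι → F₀}
    (hφw : φ ⬝ᵥ w = 0) : tvGL (b • cv w) (cv φ) ∈ M := by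
  have key : ∀ v w : ι → F₀, v ≠ 0 → φ ⬝ᵥ v = 0 → φ ⬝ᵥ w = 0 → w ∉ Submodule.span F₀ {v} →
      tvGL (b • cv v) (cv φ) ∈ M → tvGL (b • cv w) (cv φ) ∈ M := by
    intro v w hv hφv hφw hnot h
    obtain ⟨ξ, hξ⟩ := exists_dot (li_pair hv hnot) ![1, 0]
    have hξv : ξ ⬝ᵥ v = 1 := by rw [dotProduct_comm]; exact hξ 0
    have hξw : ξ ⬝ᵥ w = 0 := by rw [dotProduct_comm]; exact hξ 1
    have hS := hM w ξ hξw
    have := M.mul_mem (M.mul_mem hS h) (M.inv_mem hS)
    rw [conj_tv (by rw [cv_dot, hξw]; simp) (dot_cv_zero hφv b), cv_dot, hφw, dotProduct_smul,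
      cv_dot, hξv, Subfield.coe_zero, zero_smul, sub_zero, Subfield.coe_one, smul_eq_mul, mul_one,
      tvGL_add_left (dot_cv_zero hφv b) (dot_cv_zero hφw b)] at this
    exact (M.mul_mem_cancel_left h).1 this
  by_cases hnot : w ∈ Submodule.span F₀ {v}
  · by_cases hw : w = 0
    · rw [hw, cv_zero, smul_zero, tvGL_zero_left]; exact M.one_mem
    obtain ⟨w', hw', hw''⟩ := exists_dot_zero ![φ] ![v] (by omega)
    rw [Matrix.range_cons, Matrix.range_empty, Set.union_empty] at hw''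
    have hne : w' ≠ 0 := fun e => hw'' (by rw [e]; exact zero_mem _)
    refine key w' w hne (hw' 0) hφw (fun hmem => hw'' ?_) (key v w' hv hφv (hw' 0) hw'' h)
    obtain ⟨c, rfl⟩ := Submodule.mem_span_singleton.1 hmem
    have hc : c ≠ 0 := fun e => hw (by rw [e, zero_smul])
    exact (Submodule.smul_mem_iff _ hc).1 hnot
  · exact key v w hv hφv hφw hnot h

lemma good_of_one (hM : Contains F₀ M) (hn : 2 < Fintype.card ι) {b : F} {v₀ φ₀ : ι → F₀}
    (hv : v₀ ≠ 0) (hφ : φ₀ ≠ 0) (hφv : φ₀ ⬝ᵥ v₀ = 0) (h : tvGL (b • cv v₀) (cv φ₀) ∈ M) :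
    Good F₀ M b := by
  intro w ψ hψw
  by_cases hw : w = 0
  · rw [hw, cv_zero, smul_zero, tvGL_zero_left]; exact M.one_mem
  obtain ⟨χ, hχ, hne⟩ := exists_perp_two hn v₀ w
  have h1 : χ ⬝ᵥ v₀ = 0 := by rw [dotProduct_comm]; exact hχ 0
  have h2 : χ ⬝ᵥ w = 0 := by rw [dotProduct_comm]; exact hχ 1
  exact change_functional hM hn hne h2
    (change_vector hM hn hv h1 (change_functional hM hn hφ hφv h h1) h2) hψw

lemma good_mul (hM : Contains F₀ M) (hn : 2 < Fintype.card ι) [Nonempty ι] {a c : F}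
    (ha : Good F₀ M a) (hc : Good F₀ M c) : Good F₀ M (a * c) := by
  obtain ⟨v, -, hv⟩ := exists_dot_zero (![] : Fin 0 → ι → F₀) ![(0 : ι → F₀)] (by omega)
  have hv0 : v ≠ 0 := fun e => hv (by rw [e]; exact zero_mem _)
  obtain ⟨χ, hχ, hχ0⟩ := exists_dot_zero ![v] ![(0 : ι → F₀)] (by omega)
  have hχne : χ ≠ 0 := fun e => hχ0 (by rw [e]; exact zero_mem _)
  have hχv : χ ⬝ᵥ v = 0 := by rw [dotProduct_comm]; exact hχ 0
  obtain ⟨φ, hφ, hφnot⟩ := exists_dot_zero ![v] ![χ] (by omega)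
  rw [Matrix.range_cons, Matrix.range_empty, Set.union_empty] at hφnot
  have hφv : φ ⬝ᵥ v = 0 := by rw [dotProduct_comm]; exact hφ 0
  obtain ⟨w, hw⟩ := exists_dot (li_pair hχne hφnot) ![0, 1]
  have hA := ha v φ hφv
  have hS := hc w χ (hw 0)
  have := M.mul_mem (M.mul_mem (M.mul_mem hA hS) (M.inv_mem hA)) (M.inv_mem hS)
  rw [comm_tv_left (dot_cv_zero hφv a) (dot_cv_zero (show χ ⬝ᵥ w = 0 from hw 0) c) (dot_cv_zero hχv a), dotProduct_smul,
    cv_dot, show φ ⬝ᵥ w = 1 from hw 1, Subfield.coe_one, smul_eq_mul, mul_one, smul_smul,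
    mul_comm c a] at this
  exact good_of_one hM hn hv0 hχne hχv this

lemma exists_good_left (hM : Contains F₀ M) (hn : 2 < Fintype.card ι) {u φ : ι → F}
    (hu : ¬ IsRat F₀ u) (hφ : φ ≠ 0) (hφu : φ ⬝ᵥ u = 0) (hT : tvGL u φ ∈ M) {ψ : ι → F₀}
    (hψ : ψ ≠ 0) (hψu : cv ψ ⬝ᵥ u = 0) : ∃ b, b ∉ F₀ ∧ Good F₀ M b := by
  obtain ⟨β, hβ, hmem⟩ : ∃ β : F, β ≠ 0 ∧ tvGL (β • u) (cv ψ) ∈ M := by
    by_cases hex : ∃ v : ι → F₀, ψ ⬝ᵥ v = 0 ∧ φ ⬝ᵥ cv v ≠ 0
    · obtain ⟨v, hv, hφv⟩ := hex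
      have hS := hM v ψ hv
      have := M.mul_mem (M.mul_mem (M.mul_mem hT hS) (M.inv_mem hT)) (M.inv_mem hS)
      rw [comm_tv_left hφu (by rw [cv_dot, hv]; simp) hψu] at this
      exact ⟨_, hφv, this⟩
    · push Not at hex
      obtain ⟨v₀, hv₀⟩ := exists_dot (LinearIndependent.of_subsingleton (v := ![ψ]) 0 hψ) ![1]
      have hv₀' : ψ ⬝ᵥ v₀ = 1 := hv₀ 0
      set l := φ ⬝ᵥ cv v₀ with hl
      have hφeq : φ = l • cv ψ := by
        funext j
        have h := hex (Pi.single j 1 - ψ j • v₀) (by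
          rw [dotProduct_sub, dotProduct_smul, hv₀', dotProduct_single]; simp)
        rw [cv_sub, cv_smul, cv_single, dotProduct_sub, dotProduct_smul, dotProduct_single,
          Subfield.coe_one, mul_one, sub_eq_zero] at h
        rw [h, Pi.smul_apply, smul_eq_mul, hl, smul_eq_mul]
        exact mul_comm _ _
      have hl0 : l ≠ 0 := fun e => hφ (by rw [hφeq, e, zero_smul])
      exact ⟨l, hl0, by rwa [tvGL_smul _ hψu, ← hφeq]⟩
  by_contra hcon
  push Not at hcon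
  refine hu (isRat_of_forall hβ fun j => by_contra fun hj => hcon _ hj ?_)
  obtain ⟨v, hv, hvne⟩ := exists_perp_two hn ψ (Pi.single j 1)
  have hS := hM v (Pi.single j 1) (hv 1)
  have := M.mul_mem (M.mul_mem hS hmem) (M.inv_mem hS)
  rw [conj_tv (by rw [cv_dot, show Pi.single j 1 ⬝ᵥ v = 0 from hv 1]; simp)
      (by rw [dotProduct_smul, hψu, smul_zero]), cv_dot, show ψ ⬝ᵥ v = 0 from hv 0,
    Subfield.coe_zero, zero_smul, sub_zero, cv_single, Subfield.coe_one, single_dotProduct,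
    one_mul, Pi.smul_apply, smul_eq_mul,
    tvGL_add_left (by rw [dotProduct_smul, hψu, smul_zero])
      (dot_cv_zero (show ψ ⬝ᵥ v = 0 from hv 0) _)] at this
  exact good_of_one hM hn hvne hψ (hv 0) ((M.mul_mem_cancel_left hmem).1 this)

lemma exists_good_right (hM : Contains F₀ M) (hn : 2 < Fintype.card ι) {u φ : ι → F}
    (hφ : ¬ IsRat F₀ φ) (hu : u ≠ 0) (hφu : φ ⬝ᵥ u = 0) (hT : tvGL u φ ∈ M) {v : ι → F₀}
    (hv : v ≠ 0) (hφv : φ ⬝ᵥ cv v = 0) : ∃ b, b ∉ F₀ ∧ Good F₀ M b := by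
  obtain ⟨β, hβ, hmem⟩ : ∃ β : F, β ≠ 0 ∧ tvGL (cv v) (β • φ) ∈ M := by
    by_cases hex : ∃ χ : ι → F₀, χ ⬝ᵥ v = 0 ∧ cv χ ⬝ᵥ u ≠ 0
    · obtain ⟨χ, hχ, hχu⟩ := hex
      have hS := hM v χ hχ
      have := M.mul_mem (M.mul_mem (M.mul_mem hT hS) (M.inv_mem hT)) (M.inv_mem hS)
      rw [comm_tv_right hφu (by rw [cv_dot, hχ]; simp) hφv] at this
      exact ⟨_, neg_ne_zero.2 hχu, this⟩
    · push Not at hex
      obtain ⟨χ₀, hχ₀⟩ := exists_dot (LinearIndependent.of_subsingleton (v := ![v]) 0 hv) ![1]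
      have hχ₀' : χ₀ ⬝ᵥ v = 1 := by rw [dotProduct_comm]; exact hχ₀ 0
      set l := cv χ₀ ⬝ᵥ u with hl
      have hueq : u = l • cv v := by
        funext j
        have h := hex (Pi.single j 1 - v j • χ₀) (by
          rw [sub_dotProduct, smul_dotProduct, hχ₀', single_dotProduct]; simp)
        rw [cv_sub, cv_smul, cv_single, sub_dotProduct, smul_dotProduct, single_dotProduct,
          Subfield.coe_one, one_mul, sub_eq_zero] at h
        rw [h, Pi.smul_apply, smul_eq_mul, hl, smul_eq_mul]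
        exact mul_comm _ _
      have hl0 : l ≠ 0 := fun e => hu (by rw [hueq, e, zero_smul])
      exact ⟨l, hl0, by rwa [← tvGL_smul _ hφv, ← hueq]⟩
  by_contra hcon
  push Not at hcon
  refine hφ (isRat_of_forall (neg_ne_zero.2 hβ) fun j => by_contra fun hj => hcon _ hj ?_)
  obtain ⟨ξ, hξ, hξne⟩ := exists_perp_two hn v (Pi.single j 1)
  have hξv : ξ ⬝ᵥ v = 0 := by rw [dotProduct_comm]; exact hξ 0
  have hξw : ξ ⬝ᵥ Pi.single j 1 = 0 := by rw [dotProduct_comm]; exact hξ 1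
  have hβv : (β • φ) ⬝ᵥ cv v = 0 := by rw [smul_dotProduct, hφv, smul_zero]
  have hξv' : cv ξ ⬝ᵥ cv v = 0 := by rw [cv_dot, hξv]; simp
  have hS := hM (Pi.single j 1) ξ hξw
  have := M.mul_mem (M.mul_mem hS hmem) (M.inv_mem hS)
  rw [conj_tv (by rw [cv_dot, hξw]; simp) hβv, hξv', zero_smul, add_zero, sub_eq_add_neg,
    cv_single, Subfield.coe_one, dotProduct_single, mul_one, Pi.smul_apply, smul_eq_mul,
    ← neg_smul, tvGL_add_right hβv (by rw [smul_dotProduct, hξv', smul_zero]),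
    ← tvGL_smul _ hξv', ← neg_mul] at this
  exact good_of_one hM hn hv hξne hξv ((M.mul_mem_cancel_left hmem).1 this)

/-- The centre of a non-trivial transvection. -/
lemma centre_eq {u φ u' φ' : ι → F} (h : φ ⬝ᵥ u = 0) (h' : φ' ⬝ᵥ u' = 0) (hφ : φ ≠ 0)
    (e : tvGL u φ = tvGL u' φ') : ∃ c : F, u = c • u' := by
  obtain ⟨j, hj⟩ : ∃ j, φ j ≠ 0 := Function.ne_iff.1 hφ
  have e1 := congrArg (fun t : GL ι F => (t : Matrix ι ι F) *ᵥ Pi.single j 1) e
  simp only [tvGL_mulVec h, tvGL_mulVec h', add_right_inj, dotProduct_single, mul_one] at e1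
  exact ⟨(φ j)⁻¹ * φ' j, by rw [mul_smul, ← e1, inv_smul_smul₀ hj]⟩

/-- Centre on no rational line, axis through no rational point. -/
def Generic (F₀ : Subfield F) (u φ : ι → F) : Prop :=
  ¬ IsRat F₀ u ∧ (∀ ψ : ι → F₀, ψ ≠ 0 → cv ψ ⬝ᵥ u ≠ 0) ∧ ∀ p : ι → F₀, p ≠ 0 → φ ⬝ᵥ cv p ≠ 0

lemma generic_not_mem (hn : 2 < Fintype.card ι) {u φ : ι → F} (hg : Generic F₀ u φ) (h : φ ⬝ᵥ u = 0) :
    tvGL u φ ∉ subfieldSubgroup F₀ (1 : GL ι F) := by
  intro hmem
  haveI : Nonempty ι := Fintype.card_pos_iff.1 (by omega)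
  obtain ⟨j⟩ := ‹Nonempty ι›
  have hj : (Pi.single j 1 : ι → F₀) ≠ 0 := fun e => by simpa using congrFun e j
  obtain ⟨l, r, e⟩ := mem_sub_one_iff.1 hmem (Pi.single j 1)
  obtain ⟨ψ, hψ, hψ0⟩ := exists_perp_two hn (Pi.single j 1) r
  rw [tvGL_mulVec h] at e
  have e1 := congrArg (fun z => cv ψ ⬝ᵥ z) e
  have h1 : cv ψ ⬝ᵥ cv (F₀ := F₀) (Pi.single j 1) = (0 : F) := by
    rw [cv_dot, dotProduct_comm, show Pi.single j 1 ⬝ᵥ ψ = 0 from hψ 0]; simp
  have h2 : cv ψ ⬝ᵥ cv r = (0 : F) := by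
    rw [cv_dot, dotProduct_comm, show r ⬝ᵥ ψ = 0 from hψ 1]; simp
  simp only [dotProduct_add, dotProduct_smul, h1, h2, smul_zero, zero_add, smul_eq_mul] at e1
  replace e1 := mul_eq_zero.1 (e1.trans (mul_zero l))
  rcases e1 with e1 | e1
  · exact hg.2.2 _ hj e1
  · exact hg.2.1 ψ hψ0 e1

/-- Two generic transvections differing by a rational matrix are equal. -/
lemma eq_of_rat (hn : 2 < Fintype.card ι) {u φ u' φ' : ι → F} (hg : Generic F₀ u φ)
    (hg' : Generic F₀ u' φ') (h : φ ⬝ᵥ u = 0) (h' : φ' ⬝ᵥ u' = 0) (L : Matrix ι ι F₀)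
    (hL : ∀ x : ι → F, (tvGL u' φ' : Matrix ι ι F) *ᵥ x
      = (tvGL u φ : Matrix ι ι F) *ᵥ (L.map F₀.subtype *ᵥ x)) : tvGL u φ = tvGL u' φ' := by
  obtain ⟨x, hx, hx0⟩ := exists_perp_two hn φ φ'
  have hfix : L.map F₀.subtype *ᵥ x = x := by
    refine gl_mulVec_injective (tvGL u φ) ?_
    change (tvGL u φ : Matrix ι ι F) *ᵥ _ = (tvGL u φ : Matrix ι ι F) *ᵥ x
    rw [← hL, tvGL_mulVec h, tvGL_mulVec h', show φ ⬝ᵥ x = 0 from hx 0,
      show φ' ⬝ᵥ x = 0 from hx 1, zero_smul, zero_smul]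
  have hdet : (L - 1).det = 0 := by
    have hdetF : ((L - 1).map F₀.subtype).det = 0 := by
      refine Matrix.exists_mulVec_eq_zero_iff.1 ⟨x, hx0, ?_⟩
      rw [Matrix.map_sub _ (map_sub F₀.subtype), Matrix.map_one _ (map_zero _) (map_one _),
        sub_mulVec, hfix, one_mulVec, sub_self]
    rw [show (L - 1).map F₀.subtype = F₀.subtype.mapMatrix (L - 1) from rfl, ← RingHom.map_det] at hdetF
    exact (map_eq_zero F₀.subtype).1 hdetF
  obtain ⟨p, hp, hp'⟩ := Matrix.exists_mulVec_eq_zero_iff.2 hdet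
  rw [sub_mulVec, one_mulVec, sub_eq_zero] at hp'
  have e := hL (cv p)
  rw [← cv_mulVec, hp', tvGL_mulVec h, tvGL_mulVec h', add_right_inj] at e
  set k := (φ' ⬝ᵥ cv p)⁻¹ * (φ ⬝ᵥ cv p)
  have hk : u' = k • u := by
    rw [mul_smul, ← e, inv_smul_smul₀ (hg'.2.2 p hp)]
  set φ'' := k • φ' - φ with hφ''
  have key : ∀ y : ι → F₀, (φ'' ⬝ᵥ cv y) • u = cv ((L - 1) *ᵥ y) := fun y => by
    refine gl_mulVec_injective (tvGL u φ) ?_
    change (tvGL u φ : Matrix ι ι F) *ᵥ _ = (tvGL u φ : Matrix ι ι F) *ᵥ _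
    rw [sub_mulVec, one_mulVec, cv_sub, mulVec_sub, cv_mulVec, ← hL, mulVec_smul, tvGL_mulVec h,
      tvGL_mulVec h', tvGL_mulVec h, h, zero_smul, add_zero, hk, hφ'', sub_dotProduct,
      smul_dotProduct, smul_eq_mul]
    module
  by_cases h0 : φ'' = 0
  · rw [sub_eq_zero] at h0
    rw [hk, tvGL_smul _ (by rw [hk, dotProduct_smul, smul_eq_zero] at h'; rcases h' with h' | h'
                            · exact absurd (by rw [hk, h', zero_smul]) (fun e : u' = 0 =>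
                                hg'.1 ⟨0, 0, by rw [e, cv_zero, zero_smul]⟩)
                            · exact h'), h0]
  · obtain ⟨j, hj⟩ : ∃ j, φ'' j ≠ 0 := Function.ne_iff.1 h0
    refine absurd ?_ hg.1
    refine ⟨(φ'' j)⁻¹, (L - 1) *ᵥ Pi.single j 1, ?_⟩
    rw [← key, cv_single, Subfield.coe_one, dotProduct_single, mul_one, inv_smul_smul₀ hj]

/-- A root of unity of order dividing `q₀ - 1` lies in the subfield. -/
lemma mem_of_pow_eq_one [Fintype F] {x : F} (hx : x ^ (Nat.card F₀ - 1) = 1) : x ∈ F₀ := by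
  classical
  letI : Fintype F₀ := Fintype.ofFinite _
  set m := Nat.card F₀ - 1 with hm
  have hcard : Nat.card F₀ = Fintype.card F₀ := Nat.card_eq_fintype_card
  have hm0 : 0 < m := by
    have := Fintype.one_lt_card (α := F₀)
    omega
  set S : Finset F := (Finset.univ.erase (0 : F₀)).map ⟨Subtype.val, Subtype.val_injective⟩
  have hsub : S ⊆ (Polynomial.nthRoots m (1 : F)).toFinset := by
    intro y hy
    obtain ⟨z, hz, rfl⟩ := Finset.mem_map.1 hy
    rw [Multiset.mem_toFinset, Polynomial.mem_nthRoots hm0]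
    have := FiniteField.pow_card_sub_one_eq_one z (Finset.ne_of_mem_erase hz)
    have e := congrArg F₀.subtype this
    rw [map_pow, map_one, ← hcard] at e
    exact e
  have hS : S = (Polynomial.nthRoots m (1 : F)).toFinset := by
    refine Finset.eq_of_subset_of_card_le hsub ?_
    rw [Finset.card_map, Finset.card_erase_of_mem (Finset.mem_univ _), Finset.card_univ, ← hcard]
    exact (Multiset.toFinset_card_le _).trans (Polynomial.card_nthRoots m 1)
  have : x ∈ S := by rw [hS, Multiset.mem_toFinset, Polynomial.mem_nthRoots hm0]; exact hx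
  obtain ⟨z, -, rfl⟩ := Finset.mem_map.1 this
  exact z.2

/-- A larger overgroup has an irrational root parameter. -/
lemma exists_good [Fintype F] (hn3 : Fintype.card ι = 3)
    (hHM : subfieldSubgroup F₀ (1 : GL ι F) ⊓ specialLinear ι F ≤ M) (hMK : M ≤ specialLinear ι F)
    {g : GL ι F} (hgM : g ∈ M) (hgH : g ∉ subfieldSubgroup F₀ (1 : GL ι F) ⊓ specialLinear ι F)
    (hH : Contains F₀ (subfieldSubgroup F₀ (1 : GL ι F) ⊓ specialLinear ι F)) :
    ∃ b, b ∉ F₀ ∧ Good F₀ M b := by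
  classical
  have hn : 2 < Fintype.card ι := by omega
  set H := subfieldSubgroup F₀ (1 : GL ι F) ⊓ specialLinear ι F
  have hM : Contains F₀ M := fun v ψ h => hHM (hH v ψ h)
  by_contra hcon
  have hB1 : ∀ h ∈ M, ∀ a ψ : ι → F₀, a ≠ 0 → ψ ≠ 0 →
      cv ψ ⬝ᵥ ((h : Matrix ι ι F) *ᵥ cv a) = 0 → IsRat F₀ ((h : Matrix ι ι F) *ᵥ cv a) := by
    intro h hh a ψ ha hψ hzero
    by_contra hirr
    obtain ⟨χ, hχ, hχ0⟩ := exists_dot_zero ![a] ![(0 : ι → F₀)] (by omega)
    have hχne : χ ≠ 0 := fun e => hχ0 (by rw [e]; exact zero_mem _)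
    have hχa : χ ⬝ᵥ a = 0 := by rw [dotProduct_comm]; exact hχ 0
    have hT := M.mul_mem (M.mul_mem hh (hM a χ hχa)) (M.inv_mem hh)
    have hd : cv χ ⬝ᵥ cv a = 0 := by rw [cv_dot, hχa]; simp
    rw [conj_tvGL _ hd] at hT
    refine hcon (exists_good_left hM hn hirr (fun e => ?_) ?_ hT hψ hzero)
    · apply cv_ne_zero hχne
      have := congrArg (fun z => z ᵥ* (h : Matrix ι ι F)) e
      simpa [vecMul_vecMul] using this
    · rw [vecMul_inv_dot, gl_inv_mulVec_mulVec, hd]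
  have hB2 : ∀ h ∈ M, ∀ v ψ : ι → F₀, v ≠ 0 → ψ ≠ 0 →
      (cv ψ ᵥ* ((h⁻¹ : GL ι F) : Matrix ι ι F)) ⬝ᵥ cv v = 0 →
      IsRat F₀ (cv ψ ᵥ* ((h⁻¹ : GL ι F) : Matrix ι ι F)) := by
    intro h hh v ψ hv hψ hzero
    by_contra hirr
    obtain ⟨a, ha, ha0⟩ := exists_dot_zero ![ψ] ![(0 : ι → F₀)] (by omega)
    have hane : a ≠ 0 := fun e => ha0 (by rw [e]; exact zero_mem _)
    have hT := M.mul_mem (M.mul_mem hh (hM a ψ (ha 0))) (M.inv_mem hh)
    have hd : cv ψ ⬝ᵥ cv a = 0 := by rw [cv_dot, show ψ ⬝ᵥ a = 0 from ha 0]; simp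
    rw [conj_tvGL _ hd] at hT
    refine hcon (exists_good_right hM hn hirr (gl_mulVec_ne_zero h (cv_ne_zero hane)) ?_ hT hv hzero)
    rw [vecMul_inv_dot, gl_inv_mulVec_mulVec, hd]
  -- an element with a rational image of a rational point is rational
  have hrat : ∀ h ∈ M, ∀ a : ι → F₀, a ≠ 0 → IsRat F₀ ((h : Matrix ι ι F) *ᵥ cv a) → h ∈ H := by
    intro h hh a ha hla
    refine ⟨mem_sub_one_iff.2 fun y => ?_, hMK hh⟩
    by_cases hy : y = 0
    · exact ⟨0, 0, by rw [hy, cv_zero, mulVec_zero, zero_smul]⟩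
    obtain ⟨ψ, hψ, hψne⟩ := exists_perp_two hn a y
    obtain ⟨l, r, hr'⟩ := hla
    have hl : l ≠ 0 := fun e =>
      gl_mulVec_ne_zero h (cv_ne_zero ha) (by rw [hr', e, zero_smul])
    have hr0 : r ≠ 0 := fun e =>
      gl_mulVec_ne_zero h (cv_ne_zero ha) (by rw [hr', e, cv_zero, smul_zero])
    have h1 : (cv ψ ᵥ* ((h⁻¹ : GL ι F) : Matrix ι ι F)) ⬝ᵥ (l • cv r) = 0 := by
      rw [← hr', vecMul_inv_dot, gl_inv_mulVec_mulVec, cv_dot, dotProduct_comm,
        show a ⬝ᵥ ψ = 0 from hψ 0]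
      simp
    rw [dotProduct_smul, smul_eq_mul, mul_eq_zero] at h1
    obtain ⟨l', r', e'⟩ := hB2 h hh r ψ hr0 hψne (h1.resolve_left hl)
    have hr'0 : r' ≠ 0 := fun e => by
      apply cv_ne_zero hψne
      have := congrArg (fun z => z ᵥ* (h : Matrix ι ι F)) e'
      simpa [vecMul_vecMul, e, cv_zero] using this
    have hl' : l' ≠ 0 := fun e => by
      apply cv_ne_zero hψne
      have := congrArg (fun z => z ᵥ* (h : Matrix ι ι F)) e'
      simpa [vecMul_vecMul, e] using this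
    have h2 : (l' • cv r') ⬝ᵥ ((h : Matrix ι ι F) *ᵥ cv y) = 0 := by
      rw [← e', vecMul_inv_dot, gl_inv_mulVec_mulVec, cv_dot, dotProduct_comm,
        show y ⬝ᵥ ψ = 0 from hψ 1]
      simp
    rw [smul_dotProduct, smul_eq_mul, mul_eq_zero] at h2
    exact hB1 h hh y r' hy hr'0 (h2.resolve_left hl')
  -- images of rational transvections outside the subfield group are generic
  have hgen : ∀ k ∈ M, k ∉ H → ∀ v χ : ι → F₀, v ≠ 0 → χ ≠ 0 → χ ⬝ᵥ v = 0 →
      Generic F₀ ((k : Matrix ι ι F) *ᵥ cv v) (cv χ ᵥ* ((k⁻¹ : GL ι F) : Matrix ι ι F)) := by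
    intro k hk hkH v χ hv hχ hχv
    have h1 : ¬ IsRat F₀ ((k : Matrix ι ι F) *ᵥ cv v) := fun h => hkH (hrat k hk v hv h)
    have h2 : ∀ ψ : ι → F₀, ψ ≠ 0 → cv ψ ⬝ᵥ ((k : Matrix ι ι F) *ᵥ cv v) ≠ 0 :=
      fun ψ hψ e => h1 (hB1 k hk v ψ hv hψ e)
    refine ⟨h1, h2, fun p hp e => ?_⟩
    obtain ⟨l, s, hs⟩ := hB2 k hk p χ hp hχ e
    have hl : l ≠ 0 := fun e' => by
      apply cv_ne_zero hχ
      have := congrArg (fun z => z ᵥ* (k : Matrix ι ι F)) hs
      simpa [vecMul_vecMul, e'] using this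
    have hs0 : s ≠ 0 := fun e' => by
      apply cv_ne_zero hχ
      have := congrArg (fun z => z ᵥ* (k : Matrix ι ι F)) hs
      simpa [vecMul_vecMul, e', cv_zero] using this
    have h3 : (l • cv s) ⬝ᵥ ((k : Matrix ι ι F) *ᵥ cv v) = 0 := by
      rw [← hs, vecMul_inv_dot, gl_inv_mulVec_mulVec, cv_dot, hχv]; simp
    rw [smul_dotProduct, smul_eq_mul, mul_eq_zero] at h3
    exact h2 s hs0 (h3.resolve_left hl)
  -- four rational transvections
  obtain ⟨ev⟩ : Nonempty (Fin 3 ≃ ι) := Fintype.card_eq.1 (by rw [Fintype.card_fin, hn3])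
  let cA : Fin 4 → Fin 3 := ![0, 1, 0, 2]
  let cB : Fin 4 → Fin 3 := ![1, 0, 2, 0]
  let sv : Fin 4 → ι → F₀ := fun i => Pi.single (ev (cA i)) 1
  let sχ : Fin 4 → ι → F₀ := fun i => Pi.single (ev (cB i)) 1
  have hne' : ∀ i : Fin 4, ev (cA i) ≠ ev (cB i) := fun i e => by
    have := ev.injective e; revert this; fin_cases i <;> decide
  have hd : ∀ i, sχ i ⬝ᵥ sv i = 0 := fun i => by
    simp [sv, sχ, single_dotProduct, (hne' i).symm]
  have hdF : ∀ i, cv (sχ i) ⬝ᵥ cv (sv i) = (0 : F) := fun i => by rw [cv_dot, hd]; simp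
  have hv0 : ∀ i, sv i ≠ 0 := fun i e => by simpa [sv] using congrFun e (ev (cA i))
  have hχ0 : ∀ i, sχ i ≠ 0 := fun i e => by simpa [sχ] using congrFun e (ev (cB i))
  have hsinj : ∀ i j, tvGL (cv (sv i) : ι → F) (cv (sχ i)) = tvGL (cv (sv j)) (cv (sχ j)) → i = j := by
    intro i j e
    by_contra hij
    have e1 := congrFun (congrArg (fun t : GL ι F => (t : Matrix ι ι F) *ᵥ
      Pi.single (ev (cB i)) 1) e) (ev (cA i))
    simp only [tvGL_mulVec (hdF i), tvGL_mulVec (hdF j), Pi.add_apply, Pi.smul_apply, smul_eq_mul,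
      add_right_inj] at e1
    simp only [sv, sχ, cv_single, Subfield.coe_one, dotProduct_single, Pi.single_eq_same,
      mul_one] at e1
    have : cA i = cA j ∧ cB i = cB j := by
      by_cases h1 : cA i = cA j
      · by_cases h2 : cB i = cB j
        · exact ⟨h1, h2⟩
        · rw [Pi.single_eq_of_ne (ev.injective.ne h2), zero_mul] at e1
          exact absurd e1 one_ne_zero
      · rw [Pi.single_eq_of_ne (ev.injective.ne h1), mul_zero] at e1
        exact absurd e1 one_ne_zero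
    obtain ⟨a1, a2⟩ := this
    revert a1 a2 hij
    fin_cases i <;> fin_cases j <;> decide
  -- their conjugates outside the subfield group
  let Hs : Subgroup M := H.subgroupOf M
  let P := {q : M ⧸ Hs // q ≠ ((1 : M) : M ⧸ Hs)}
  let k : P → M := fun q => q.1.out
  have hk : ∀ q, ((k q : M) : GL ι F) ∉ H := fun q hq => q.2 (by
    rw [← QuotientGroup.out_eq' q.1, QuotientGroup.eq]
    exact Subgroup.mem_subgroupOf.2 (by simpa using H.inv_mem hq))
  let U : P × Fin 4 → ι → F := fun x => ((k x.1 : GL ι F) : Matrix ι ι F) *ᵥ cv (sv x.2)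
  let Φ : P × Fin 4 → ι → F := fun x =>
    cv (sχ x.2) ᵥ* (((k x.1 : GL ι F)⁻¹ : GL ι F) : Matrix ι ι F)
  let f : P × Fin 4 → M := fun x => k x.1 * ⟨_, hM _ _ (hd x.2)⟩ * (k x.1)⁻¹
  have hf : ∀ x, (f x : GL ι F) = tvGL (U x) (Φ x) := fun x => by
    change (k x.1 : GL ι F) * tvGL _ _ * (k x.1 : GL ι F)⁻¹ = _
    exact conj_tvGL _ (hdF x.2)
  have hUΦ : ∀ x, Φ x ⬝ᵥ U x = 0 := fun x => by
    simp only [U, Φ]
    rw [vecMul_inv_dot, gl_inv_mulVec_mulVec, hdF]
  have hG : ∀ x, Generic F₀ (U x) (Φ x) := fun x =>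
    hgen _ (k x.1).2 (hk x.1) _ _ (hv0 _) (hχ0 _) (hd _)
  have hfinj : Function.Injective f := by
    rintro ⟨q, i⟩ ⟨q', j⟩ e
    have e' : (f (q, i) : GL ι F) = f (q', j) := by rw [e]
    set h : GL ι F := (k q' : GL ι F)⁻¹ * k q with hh
    have e2 : h * tvGL (cv (sv i)) (cv (sχ i)) * h⁻¹ = tvGL (cv (sv j)) (cv (sχ j)) := by
      have : (k q : GL ι F) * tvGL (cv (sv i)) (cv (sχ i)) * (k q : GL ι F)⁻¹
          = (k q' : GL ι F) * tvGL (cv (sv j)) (cv (sχ j)) * (k q' : GL ι F)⁻¹ := e'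
      calc h * tvGL (cv (sv i)) (cv (sχ i)) * h⁻¹
          = (k q' : GL ι F)⁻¹ * ((k q : GL ι F) * tvGL (cv (sv i)) (cv (sχ i)) * (k q : GL ι F)⁻¹)
            * (k q' : GL ι F) := by rw [hh]; group
        _ = _ := by rw [this]; group
    rw [conj_tvGL _ (hdF i)] at e2
    obtain ⟨c, hc⟩ := centre_eq (by rw [vecMul_inv_dot, gl_inv_mulVec_mulVec, hdF]) (hdF j)
      (fun e0 => cv_ne_zero (hχ0 i) (by
        have := congrArg (fun z => z ᵥ* (h : Matrix ι ι F)) e0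
        simpa [vecMul_vecMul] using this)) e2
    have hhH : h ∈ H := hrat h (M.mul_mem (M.inv_mem (k q').2) (k q).2) _ (hv0 i) ⟨c, _, hc⟩
    obtain rfl : q = q' := Subtype.ext (by
      rw [← QuotientGroup.out_eq' q.1, ← QuotientGroup.out_eq' q'.1, eq_comm, QuotientGroup.eq]
      exact Subgroup.mem_subgroupOf.2 hhH)
    have hij := hsinj i j (by
      simpa [f] using congrArg Subtype.val e)
    rw [hij]
  have hout : ∀ x, ((f x : M) : M ⧸ Hs) ≠ ((1 : M) : M ⧸ Hs) := fun x e => by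
    rw [QuotientGroup.eq, mul_one, Subgroup.mem_subgroupOf] at e
    have e1 : (f x : GL ι F) ∈ H := by simpa using H.inv_mem e
    rw [hf] at e1
    exact generic_not_mem hn (hG x) (hUΦ x) e1.1
  -- four in one coset
  haveI : Fintype P := Fintype.ofFinite _
  haveI : Nonempty P := ⟨⟨((⟨g, hgM⟩ : M) : M ⧸ Hs), fun e => hgH (by
    rw [QuotientGroup.eq, mul_one, Subgroup.mem_subgroupOf] at e
    simpa using H.inv_mem e)⟩⟩
  obtain ⟨y, hy⟩ := Fintype.exists_lt_card_fiber_of_mul_lt_card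
    (fun x : P × Fin 4 => (⟨((f x : M) : M ⧸ Hs), hout x⟩ : P)) (n := 3) (by
      rw [Fintype.card_prod, Fintype.card_fin]
      have := Fintype.card_pos (α := P)
      change Fintype.card P * 3 < Fintype.card P * 4
      omega)
  set Sy := Finset.univ.filter fun x : P × Fin 4 => (⟨((f x : M) : M ⧸ Hs), hout x⟩ : P) = y
  obtain ⟨x₀, hx₀⟩ : Sy.Nonempty := Finset.card_pos.1 (by omega)
  have hrel : ∀ x ∈ Sy, ∃ (c : F) (A : Matrix ι ι F₀), c ≠ 0 ∧ IsUnit A.det ∧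
      c ^ 3 * (A.det : F) = 1 ∧ ∀ z, (f x : GL ι F).1 *ᵥ z
        = (f x₀ : GL ι F).1 *ᵥ (c • (A.map F₀.subtype *ᵥ z)) := by
    intro x hx
    have e : ((f x₀ : M) : M ⧸ Hs) = ((f x : M) : M ⧸ Hs) :=
      congrArg Subtype.val ((Finset.mem_filter.1 hx₀).2.trans (Finset.mem_filter.1 hx).2.symm)
    rw [QuotientGroup.eq, Subgroup.mem_subgroupOf] at e
    obtain ⟨c, A, hA⟩ := exists_rat_matrix e.1
    set h : GL ι F := (((f x₀)⁻¹ * f x : M) : GL ι F) with hh
    have hmat : (h : Matrix ι ι F) = c • A.map F₀.subtype := by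
      refine Matrix.ext_of_mulVec_single fun i => ?_
      have := hA (Pi.single i 1)
      rw [cv_mulVec, cv_single, Subfield.coe_one] at this
      rw [smul_mulVec, this]
    have hdet : (h : Matrix ι ι F).det = 1 := by
      have := MonoidHom.mem_ker.1 e.2
      simpa using congrArg Units.val this
    rw [hmat, det_smul, hn3, show A.map F₀.subtype = F₀.subtype.mapMatrix A from rfl,
      ← RingHom.map_det] at hdet
    refine ⟨c, A, fun e0 => ?_, isUnit_iff_ne_zero.2 fun e0 => ?_, hdet, fun z => ?_⟩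
    · rw [e0] at hdet; simp at hdet
    · rw [e0] at hdet; simp at hdet
    · have e3 : (f x₀ : GL ι F) * h = f x := by
        rw [hh, ← Subgroup.coe_mul, mul_inv_cancel_left]
      rw [← smul_mulVec, ← hmat, ← gl_mulVec_mul, e3]
  choose c A hc hAu hdet hcA using hrel
  let cls : P × Fin 4 → F := fun x => if hx : x ∈ Sy then c x hx ^ (Nat.card F₀ - 1) else 1
  have hcls : ∀ x ∈ Sy, cls x ∈ (Polynomial.nthRoots 3 (1 : F)).toFinset := by
    intro x hx
    rw [Multiset.mem_toFinset, Polynomial.mem_nthRoots (by norm_num)]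
    simp only [cls, dif_pos hx]
    letI : Fintype F₀ := Fintype.ofFinite _
    have h3 : c x hx ^ 3 = (((A x hx).det)⁻¹ : F₀) := by
      push_cast
      exact eq_inv_of_mul_eq_one_left (hdet x hx)
    rw [← pow_mul, mul_comm, pow_mul, h3, Nat.card_eq_fintype_card, ← SubmonoidClass.coe_pow,
      FiniteField.pow_card_sub_one_eq_one _ (inv_ne_zero (hAu x hx).ne_zero), Subfield.coe_one]
  obtain ⟨x₁, hx₁, x₂, hx₂, hne, heq⟩ := Finset.exists_ne_map_eq_of_card_lt_of_maps_to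
    (lt_of_le_of_lt ((Multiset.toFinset_card_le _).trans (Polynomial.card_nthRoots 3 (1 : F))) hy)
    hcls
  simp only [cls, dif_pos hx₁, dif_pos hx₂] at heq
  set ρ := c x₂ hx₂ / c x₁ hx₁ with hρ
  have hρ' : ρ ∈ F₀ := mem_of_pow_eq_one (by
    rw [hρ, div_pow, ← heq, div_self (pow_ne_zero _ (hc x₁ hx₁))])
  refine hne (hfinj (Subtype.ext ?_))
  rw [hf, hf]
  refine eq_of_rat hn (hG x₁) (hG x₂) (hUΦ _) (hUΦ _)
    ((⟨ρ, hρ'⟩ : F₀) • ((A x₁ hx₁)⁻¹ * A x₂ hx₂)) fun z => ?_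
  rw [← hf, ← hf, hcA x₂ hx₂, hcA x₁ hx₁]
  congr 1
  rw [show ((⟨ρ, hρ'⟩ : F₀) • ((A x₁ hx₁)⁻¹ * A x₂ hx₂)).map F₀.subtype
      = ρ • ((A x₁ hx₁)⁻¹ * A x₂ hx₂).map F₀.subtype from Matrix.ext fun i j => rfl,
    smul_mulVec, mulVec_smul, mulVec_mulVec, smul_smul, ← Matrix.map_mul, ← Matrix.mul_assoc,
    Matrix.mul_nonsing_inv _ (hAu x₁ hx₁), Matrix.one_mul, hρ, mul_div_cancel₀ _ (hc x₁ hx₁)]

/-- Subfield groups are maximal, in dimension three. -/
theorem sl_subfield_maximal_one [Fintype F] (hn : Fintype.card ι = 3)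
    (hr : (Module.finrank F₀ F).Prime) :
    IsMaximalIn (specialLinear ι F) (subfieldSubgroup F₀ (1 : GL ι F) ⊓ specialLinear ι F) := by
  classical
  set H := subfieldSubgroup F₀ (1 : GL ι F) ⊓ specialLinear ι F with hHdef
  have hH : Contains F₀ H := fun v ψ h =>
    ⟨mem_subfieldSubgroup_of_rat _ (g₀ := tvGL v ψ) one_ne_zero fun j => by
      rw [ratVec_one, ratVec_one, one_smul, tvGL_mulVec h, tvGL_mulVec (by rw [cv_dot, h]; simp),
        cv_add, cv_smul, cv_dot], tvGL_mem_sl _ _⟩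
  haveI : IsSimpleOrder (Subalgebra F₀ F) := Subalgebra.isSimpleOrder_of_finrank_prime _ _ hr
  obtain ⟨θ, hθ⟩ : ∃ θ : F, θ ∉ F₀ := by
    by_contra hcon
    push Not at hcon
    have : (⊥ : Subalgebra F₀ F) = ⊤ :=
      eq_top_iff.2 fun y _ => Algebra.mem_bot.2 ⟨⟨y, hcon y⟩, rfl⟩
    exact bot_ne_top this
  refine CfsgLib.ClassicalMax.isMaximalIn_of inf_le_right ?_ ?_
  · obtain ⟨ev⟩ : Nonempty (Fin 3 ≃ ι) := Fintype.card_eq.1 (by rw [Fintype.card_fin, hn])
    set a := ev 0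
    set b := ev 1
    have hab : a ≠ b := ev.injective.ne (by decide)
    refine ⟨tvGL (θ • cv (Pi.single a (1 : F₀))) (cv (Pi.single b (1 : F₀))),
      tvGL_mem_sl _ _, fun h => ?_⟩
    obtain ⟨l, r, e⟩ := (mem_sub_one_iff.1 h.1) (Pi.single b 1)
    have h0 : Pi.single b (1 : F₀) ⬝ᵥ Pi.single a (1 : F₀) = 0 := by simp [hab]
    rw [tvGL_mulVec (dot_cv_zero h0 θ), cv_dot] at e
    have e0 := congrFun e a
    have e1 := congrFun e b
    simp [cv, hab, hab.symm] at e0 e1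
    have hr1 : (r b : F) ≠ 0 := fun h => by rw [h, mul_zero] at e1; exact one_ne_zero e1
    rw [show l = (r b : F)⁻¹ from eq_inv_of_mul_eq_one_left e1.symm] at e0
    exact hθ (e0 ▸ F₀.mul_mem (F₀.inv_mem (SetLike.coe_mem _)) (SetLike.coe_mem _))
  intro M hHM hMK g hgM hgH
  obtain ⟨b, hbF, hb⟩ := exists_good hn hHM hMK hgM hgH hH
  have hM : Contains F₀ M := fun v ψ h => hHM (hH v ψ h)
  have hn2 : 2 < Fintype.card ι := by omega
  haveI : Nonempty ι := Fintype.card_pos_iff.1 (by omega)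
  -- all parameters occur
  let K : Subalgebra F₀ F :=
    { carrier := {b | Good F₀ M b}
      mul_mem' := fun ha hc => good_mul hM hn2 ha hc
      one_mem' := fun v ψ h => by rw [one_smul]; exact hM v ψ h
      add_mem' := fun {a c} ha hc v ψ h => by
        rw [add_smul, tvGL_add_left (dot_cv_zero h a) (dot_cv_zero h c)]
        exact M.mul_mem (ha v ψ h) (hc v ψ h)
      zero_mem' := fun v ψ h => by rw [zero_smul, tvGL_zero_left]; exact M.one_mem
      algebraMap_mem' := fun c v ψ h => by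
        rw [show algebraMap F₀ F c = (c : F) from rfl, ← cv_smul]
        exact hM _ _ (by rw [dotProduct_smul, h, smul_zero]) }
  have hall : ∀ c, Good F₀ M c := by
    intro c
    rcases IsSimpleOrder.eq_bot_or_eq_top K with h | h
    · have : b ∈ K := hb
      rw [h, Algebra.mem_bot] at this
      obtain ⟨d, hd⟩ := this
      exact absurd (hd ▸ d.2 : b ∈ F₀) hbF
    · have : c ∈ K := h ▸ Algebra.mem_top
      exact this
  refine sl_le_of_elementary fun i j hij c => ?_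
  have := hall c (Pi.single i 1) (Pi.single j 1) (by simp [hij.symm])
  rwa [cv_single, cv_single, Subfield.coe_one, ← Pi.single_smul', smul_eq_mul, mul_one] at this

omit [DecidableEq F] in
theorem sl_subfield_maximal [Fintype F] (hn : Fintype.card ι = 3)
    (hr : (Module.finrank F₀ F).Prime) (P : GL ι F) :
    IsMaximalIn (specialLinear ι F) (subfieldSubgroup F₀ P ⊓ specialLinear ι F) := by
  classical
  have h1 : subfieldSubgroup F₀ P
      = (subfieldSubgroup F₀ (1 : GL ι F)).map (MulAut.conj P).toMonoidHom := by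
    rw [subfieldSubgroup, subfieldSubgroup, Subgroup.map_map]
    congr 1
    ext a
    simp
  have h2 : (specialLinear ι F).map (MulAut.conj P).toMonoidHom = specialLinear ι F := by
    ext k
    constructor
    · rintro ⟨a, ha, rfl⟩
      have ha' : Matrix.GeneralLinearGroup.det a = 1 := ha
      refine MonoidHom.mem_ker.2 ?_
      rw [MulEquiv.toMonoidHom_eq_coe, MonoidHom.coe_coe, MulAut.conj_apply, map_mul, map_mul, ha',
        mul_one, ← map_mul, mul_inv_cancel, map_one]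
    · intro hk
      have hk' : Matrix.GeneralLinearGroup.det k = 1 := hk
      refine ⟨P⁻¹ * k * P, MonoidHom.mem_ker.2 ?_, by simp [mul_assoc]⟩
      rw [map_mul, map_mul, hk', mul_one, ← map_mul, inv_mul_cancel, map_one]
  have h := sl_subfield_maximal_one (ι := ι) (F₀ := F₀) hn hr
  have hinj : Function.Injective (MulAut.conj P).toMonoidHom := (MulAut.conj P).injective
  rw [h1, ← h2, ← Subgroup.map_inf _ _ _ hinj]
  refine ⟨(Subgroup.map_lt_map_iff_of_injective hinj).2 h.1, fun M hl hu => ?_⟩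
  have hM : M = (M.comap (MulAut.conj P).toMonoidHom).map (MulAut.conj P).toMonoidHom :=
    (Subgroup.map_comap_eq_self_of_surjective (MulAut.conj P).surjective _).symm
  rw [hM] at hl hu ⊢
  rw [Subgroup.map_le_map_iff_of_injective hinj] at hl hu
  rcases h.2 _ hl hu with e | e
  · left; rw [e]
  · right; rw [e]

end CfsgLib.ClassicalMax.SL3Geo.SubThree
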