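/-
The similarities of a unitary form form a maximal subgroup of the special linear group of dimension
three. A transvection which commutes with only one half of a unitary transvection gives a full root
group at an isotropic point, and the full root groups generate.
-/
import Cfsg.Agent.Lib.ClassicalMax.UnitInSLSmall
import Cfsg.Agent.Lib.ClassicalMax.UnitGen
import Cfsg.Agent.Lib.ClassicalMax.UnitShort
import Cfsg.Agent.Lib.ClassicalMax.SympTools
import Cfsg.Agent.Lib.ClassicalMax.LinSubfield
set_option autoImplicit false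
set_option maxHeartbeats 1000000

namespace CfsgLib.ClassicalMax.SL3Geo.UnitThree

open Matrix Cfsg.Geo
open CfsgLib.ClassicalMax.Unit

variable {ι : Type} [Fintype ι] [DecidableEq ι] {F : Type*} [Field F] [Fintype F] [DecidableEq F]
  {σ : F ≃+* F} {f : (ι → F) → (ι → F) → F}

omit [DecidableEq F] in
/-- A vector orthogonal to an isotropic point outside it is not isotropic. -/
lemma mem_span_of_perp (hf : IsUnitaryForm σ f) (hn : Fintype.card ι = 3) {v x : ι → F}
    (hv : f v v = 0) (hv0 : v ≠ 0) (hxv : f x v = 0) (hx : f x x = 0) :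
    x ∈ Submodule.span F {v} := by
  by_contra hnot
  have hsing : IsTotallySingularFor f (Submodule.span F (Set.range ![v, x])) := by
    intro p hp q hq
    rw [Submodule.mem_span_range_iff_exists_fun] at hp hq
    obtain ⟨c, rfl⟩ := hp
    obtain ⟨d, rfl⟩ := hq
    simp [Fin.sum_univ_two, hf.add_left, hf.smul_left, add_right hf, smul_right hf, hv, hxv, hx,
      eq_zero_comm hf hxv]
  have hli : LinearIndependent F ![v, x] :=
    (LinearIndependent.pair_iff' hv0).2 fun c h => hnot (Submodule.mem_span_singleton.2 ⟨c, h⟩)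
  have h1 := two_mul_finrank_le hf hsing
  rw [finrank_span_eq_card hli, Fintype.card_fin] at h1
  omega

omit [DecidableEq F] in
/-- Three pairwise orthogonal anisotropic vectors span. -/
lemma span_orth (hf : IsUnitaryForm σ f) (hn : Fintype.card ι = 3) {u x a : ι → F}
    (hu : f u u ≠ 0) (hx : f x x ≠ 0) (ha : f a a ≠ 0) (hxu : f x u = 0) (hau : f a u = 0)
    (hax : f a x = 0) : Submodule.span F (Set.range ![u, x, a]) = ⊤ := by
  have hli : LinearIndependent F ![u, x, a] := by
    refine Fintype.linearIndependent_iff.2 fun c hc i => ?_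
    rw [Fin.sum_univ_three] at hc
    simp only [Matrix.cons_val_zero, Matrix.cons_val_one, Matrix.cons_val] at hc
    have h1 := congrArg (fun z => f z u) hc
    have h2 := congrArg (fun z => f z x) hc
    have h3 := congrArg (fun z => f z a) hc
    simp only [hf.add_left, hf.smul_left, zero_left hf, hxu, hau, hax, eq_zero_comm hf hxu,
      eq_zero_comm hf hau, eq_zero_comm hf hax, mul_zero, add_zero, zero_add, mul_eq_zero] at h1 h2 h3
    fin_cases i
    · exact h1.resolve_right hu
    · exact h2.resolve_right hx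
    · exact h3.resolve_right ha
  exact hli.span_eq_top_of_card_eq_finrank (by rw [Fintype.card_fin, Module.finrank_fintype_fun_eq_card, hn])

omit [DecidableEq F] in
lemma eq_zero_of_orth (hf : IsUnitaryForm σ f) (hn : Fintype.card ι = 3) {u x a y : ι → F}
    (hu : f u u ≠ 0) (hx : f x x ≠ 0) (ha : f a a ≠ 0) (hxu : f x u = 0) (hau : f a u = 0)
    (hax : f a x = 0) (h1 : f u y = 0) (h2 : f x y = 0) (h3 : f a y = 0) : y = 0 := by
  by_contra hy
  obtain ⟨z, hz⟩ := (hf.nondegenerate y hy).1
  apply hz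
  have hle : Submodule.span F (Set.range ![u, x, a]) ≤ LinearMap.ker (Unit.formL hf y) := by
    rw [Submodule.span_le]
    rintro _ ⟨i, rfl⟩
    fin_cases i <;> simpa
  rw [span_orth hf hn hu hx ha hxu hau hax] at hle
  exact LinearMap.mem_ker.1 (hle Submodule.mem_top)

omit [DecidableEq F] in
/-- An orthogonal pair in the polar line of an anisotropic vector. -/
lemma exists_pair_perp (hf : IsUnitaryForm σ f) (hn : Fintype.card ι = 3) {u : ι → F}
    (hu : f u u ≠ 0) :
    ∃ x a, f x x ≠ 0 ∧ f a a ≠ 0 ∧ f x u = 0 ∧ f a u = 0 ∧ f a x = 0 := by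
  have hu0 : u ≠ 0 := fun e => hu (by rw [e, zero_left hf])
  obtain ⟨x, hxu, hx⟩ : ∃ x, f x u = 0 ∧ f x x ≠ 0 := by
    by_contra hcon
    push Not at hcon
    obtain ⟨c, hc⟩ : ∃ c : F, σ c ≠ c := by
      by_contra h'
      push Not at h'
      exact hf.ne_refl (RingEquiv.ext h')
    have hsing : IsTotallySingularFor f (LinearMap.ker (Unit.formL hf u)) := by
      intro p hp q hq
      have hp' : f p u = 0 := hp
      have hq' : f q u = 0 := hq
      have h1 := hcon (p + q) (by rw [hf.add_left, hp', hq', add_zero])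
      have h2 := hcon (p + c • q) (by rw [hf.add_left, hf.smul_left, hp', hq', mul_zero, add_zero])
      simp only [hf.add_left, add_right hf, hf.smul_left, smul_right hf, hcon p hp', hcon q hq']
        at h1 h2
      have h3 : (σ c - c) * f p q = 0 := by linear_combination h2 - c * h1
      exact (mul_eq_zero.1 h3).resolve_left (sub_ne_zero.2 hc)
    have h1 := two_mul_finrank_le hf hsing
    have h2 := LinearMap.finrank_range_add_finrank_ker (Unit.formL hf u)
    have h3 : Module.finrank F (LinearMap.range (Unit.formL hf u)) ≤ 1 := by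
      simpa using Submodule.finrank_le (LinearMap.range (Unit.formL hf u))
    rw [Module.finrank_fintype_fun_eq_card] at h2
    omega
  obtain ⟨a, ha, ha0⟩ := LinSub.exists_dot_zero ![Unit.formDual hf u, Unit.formDual hf x]
    (![] : Fin 0 → ι → F) (by omega)
  have hau : f a u = 0 := by rw [← Unit.formDual_dot hf u a]; exact ha 0
  have hax : f a x = 0 := by rw [← Unit.formDual_dot hf x a]; exact ha 1
  refine ⟨x, a, hx, fun haa => ?_, hxu, hau, hax⟩
  have ha0' : a ≠ 0 := fun e => ha0 (by rw [e]; exact zero_mem _)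
  have hxu' : f u x = 0 := eq_zero_comm hf hxu
  -- `u` and `x` are orthogonal to the isotropic `a`
  obtain ⟨k, hk⟩ : ∃ k : F, f (u + k • x) (u + k • x) = 0 ∧ k ≠ 0 := by
    obtain ⟨k, hk⟩ := exists_norm_eq hf.ne_refl hf.involutive (s := - (f u u / f x x))
      (by rw [map_neg, map_div₀, self_fixed hf, self_fixed hf])
    refine ⟨k, ?_, fun e => ?_⟩
    · rw [hf.add_left, add_right hf, add_right hf, hf.smul_left, hf.smul_left, smul_right hf,
        smul_right hf, hxu', hxu, mul_zero, ← mul_assoc, hk, neg_mul, div_mul_cancel₀ _ hx]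
      ring
    · rw [e, zero_mul] at hk
      exact div_ne_zero hu hx (neg_eq_zero.1 hk.symm)
  have := mem_span_of_perp hf hn haa ha0' (x := u + k • x)
    (by rw [hf.add_left, hf.smul_left, eq_zero_comm hf hau, eq_zero_comm hf hax, mul_zero, add_zero])
    hk.1
  obtain ⟨l, hl⟩ := Submodule.mem_span_singleton.1 this
  have h1 := congrArg (fun z => f z u) hl
  simp only [hf.smul_left, hau, mul_zero, hf.add_left, hxu, add_zero] at h1
  exact hu h1.symm

omit [DecidableEq F] in
/-- The isotropic pair on an orthogonal anisotropic pair. -/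
lemma exists_iso_pair (hf : IsUnitaryForm σ f) {x a : ι → F} (hx : f x x ≠ 0) (ha : f a a ≠ 0)
    (hax : f a x = 0) :
    ∃ t ζ : F, t ≠ 0 ∧ ζ ≠ 1 ∧ f (x + t • a) (x + t • a) = 0 ∧
      f (x + (t * ζ) • a) (x + (t * ζ) • a) = 0 ∧ f (x + (t * ζ) • a) (x + t • a) ≠ 0 := by
  obtain ⟨ζ, hζ, hζ1⟩ := exists_norm_one_ne_one hf.ne_refl hf.involutive
  obtain ⟨t, ht⟩ := exists_norm_eq hf.ne_refl hf.involutive (s := - (f x x / f a a))
    (by rw [map_neg, map_div₀, self_fixed hf, self_fixed hf])
  have hexp : ∀ p q : F, f (x + p • a) (x + q • a) = f x x + p * σ q * f a a := fun p q => by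
    rw [hf.add_left, add_right hf, add_right hf, hf.smul_left, hf.smul_left, smul_right hf,
      smul_right hf, hax, eq_zero_comm hf hax]
    ring
  refine ⟨t, ζ, fun e => ?_, hζ1, ?_, ?_, ?_⟩
  · rw [e, zero_mul] at ht
    exact div_ne_zero hx ha (neg_eq_zero.1 ht.symm)
  · rw [hexp, ht, neg_mul, div_mul_cancel₀ _ ha, add_neg_cancel]
  · rw [hexp, map_mul, show t * ζ * (σ t * σ ζ) = t * σ t * (ζ * σ ζ) by ring, hζ, mul_one, ht,
      neg_mul, div_mul_cancel₀ _ ha, add_neg_cancel]
  · rw [hexp, show t * ζ * σ t = ζ * (t * σ t) by ring, ht]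
    field_simp
    intro e
    have : (1 - ζ) * f x x = 0 := by linear_combination e
    exact hζ1 (sub_eq_zero.1 ((mul_eq_zero.1 this).resolve_right hx)).symm

/-- All isometries of determinant one lie in `M`. -/
def HasSU (f : (ι → F) → (ι → F) → F) (M : Subgroup (GL ι F)) : Prop :=
  isoOf f ⊓ specialLinear ι F ≤ M

/-- The whole root group at `v` lies in `M`. -/
def Full (hf : IsUnitaryForm σ f) (M : Subgroup (GL ι F)) (v : ι → F) : Prop :=
  ∀ c : F, uTv hf v c ∈ M

variable {M : Subgroup (GL ι F)}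

lemma tv_mem (hf : IsUnitaryForm σ f) (hSU : HasSU f M) {v : ι → F} {c : F} (hv : f v v = 0)
    (hc : σ c = -c) : uTv hf v c ∈ M :=
  hSU ⟨uTv_mem_isoOf hf hv hc, uTv_mem_sl hf v c⟩

/-- A move of an anisotropic vector along an orthogonal isotropic point. -/
lemma exists_eichler (hf : IsUnitaryForm σ f) (hSU : HasSU f M) {v x₀ : ι → F} (hv : f v v = 0)
    (hx : f x₀ x₀ ≠ 0) (hxv : f x₀ v = 0) (γ : F) :
    ∃ h ∈ M, h ∈ isoOf f ∧ (h : Matrix ι ι F) *ᵥ v = v ∧
      (h : Matrix ι ι F) *ᵥ x₀ = x₀ + γ • v := by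
  obtain ⟨ζ, hζ, hζ1⟩ := exists_norm_one_ne_one hf.ne_refl hf.involutive
  have hζ0 : ζ ≠ 0 := left_ne_zero_of_mul_eq_one hζ
  have hζ' : ζ - 1 ≠ 0 := sub_ne_zero.2 hζ1
  set a := x₀ + (γ * ζ / (ζ - 1)) • v with ha
  have hvx : f v x₀ = 0 := eq_zero_comm hf hxv
  have haa : f a a = f x₀ x₀ := by
    simp [ha, hf.add_left, hf.smul_left, add_right hf, smul_right hf, hv, hxv, hvx]
  have hxa : f x₀ a = f x₀ x₀ := by simp [ha, add_right hf, smul_right hf, hxv]
  have hva : f v a = 0 := by simp [ha, add_right hf, smul_right hf, hv, hvx]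
  set z : Fˣ := Units.mk0 ζ hζ0
  set h := qRefl hf a (haa ▸ hx) z * qRefl hf x₀ hx z⁻¹
  have hiso : h ∈ isoOf f := (isoOf f).mul_mem (qRefl_mem_isoOf hf a (haa ▸ hx) z hζ)
    (qRefl_mem_isoOf hf x₀ hx z⁻¹ (by
      rw [Units.val_inv_eq_inv_val, Units.val_mk0, map_inv₀, ← mul_inv, hζ, inv_one]))
  have hsl : h ∈ specialLinear ι F := by
    refine MonoidHom.mem_ker.2 (Units.ext ?_)
    rw [Matrix.GeneralLinearGroup.val_det_apply, Units.val_mul, det_mul]
    change (qMat hf a (z : F)).det * (qMat hf x₀ ((z⁻¹ : Fˣ) : F)).det = 1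
    rw [det_qMat hf (haa ▸ hx), det_qMat hf hx, ← Units.val_mul, mul_inv_cancel, Units.val_one]
  refine ⟨h, hSU ⟨hiso, hsl⟩, hiso, ?_, ?_⟩
  · simp only [h, gl_mulVec_mul, qRefl_mulVec, hvx, mul_zero, zero_smul, add_zero, hva]
  · simp only [h, gl_mulVec_mul, qRefl_mulVec, hf.add_left, hf.smul_left, Units.val_inv_eq_inv_val,
      z, Units.val_mk0, hxa, haa]
    rw [ha]
    match_scalars <;> field_simp <;> ring

/-- A transvection with the axis of an isotropic point and another centre. -/
lemma full_of_centre (hf : IsUnitaryForm σ f) (hn : Fintype.card ι = 3) (hSU : HasSU f M)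
    {v x₀ : ι → F} (hv : f v v = 0) (hv0 : v ≠ 0) (hxv : f x₀ v = 0)
    (hnot : x₀ ∉ Submodule.span F {v}) (hm : tvGL x₀ (Unit.formDual hf v) ∈ M) : Full hf M v := by
  have hxx : f x₀ x₀ ≠ 0 := fun e => hnot (mem_span_of_perp hf hn hv hv0 hxv e)
  have hd : Unit.formDual hf v ⬝ᵥ x₀ = 0 := by rw [Unit.formDual_dot, hxv]
  have hdv : Unit.formDual hf v ⬝ᵥ v = 0 := by rw [Unit.formDual_dot, hv]
  intro γ
  obtain ⟨h, hhM, hh, hhv, hhx⟩ := exists_eichler hf hSU hv hxx hxv γ
  have h1 := M.mul_mem (M.mul_mem hhM hm) (M.inv_mem hhM)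
  rw [conj_tvGL _ hd, Unit.formDual_vecMul_inv hf hh, hhv, hhx,
    tvGL_add_left hd (by rw [dotProduct_smul, hdv, smul_zero])] at h1
  have h2 := (M.mul_mem_cancel_left hm).1 h1
  rwa [tvGL_smul γ hdv] at h2

/-- A transvection with an isotropic centre and another axis. -/
lemma full_of_axis (hf : IsUnitaryForm σ f) (hn : Fintype.card ι = 3) (hSU : HasSU f M)
    {v a : ι → F} (hv : f v v = 0) (hv0 : v ≠ 0) (hav : f a v = 0)
    (hnot : a ∉ Submodule.span F {v}) (hm : tvGL v (Unit.formDual hf a) ∈ M) : Full hf M v := by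
  have haa : f a a ≠ 0 := fun e => hnot (mem_span_of_perp hf hn hv hv0 hav e)
  have hd : Unit.formDual hf a ⬝ᵥ v = 0 := by rw [Unit.formDual_dot, eq_zero_comm hf hav]
  intro c
  obtain ⟨h, hhM, hh, hhv, hha⟩ := exists_eichler hf hSU hv haa hav (σ c)
  have h1 := M.mul_mem (M.mul_mem hhM hm) (M.inv_mem hhM)
  rw [conj_tvGL _ hd, Unit.formDual_vecMul_inv hf hh, hhv, hha, Unit.formDual_add, Unit.formDual_smul,
    hf.involutive, tvGL_add_right hd (uTv_dot hf hv c)] at h1
  exact (M.mul_mem_cancel_left hm).1 h1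

/-- A transvection fixed on the left by a unitary one. -/
lemma rule_centre (hf : IsUnitaryForm σ f) (hn : Fintype.card ι = 3) (hSU : HasSU f M)
    {u a v : ι → F} (hua : f u a = 0) (hu0 : u ≠ 0) (hm : tvGL u (Unit.formDual hf a) ∈ M)
    (hv : f v v = 0) (hv0 : v ≠ 0) (huv : f u v = 0) (hav : f a v ≠ 0) : Full hf M v := by
  obtain ⟨τ, hτ0, hτ⟩ := exists_trace_zero hf.ne_refl hf.involutive
  have hd : Unit.formDual hf a ⬝ᵥ u = 0 := by rw [Unit.formDual_dot, hua]
  have hS := tv_mem hf hSU hv hτ
  have h1 := M.mul_mem (M.mul_mem hS hm) (M.inv_mem hS)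
  rw [conj_tvGL _ hd, Unit.formDual_vecMul_inv hf (uTv_mem_isoOf hf hv hτ), uTv_mulVec_of_orth hf hv τ huv,
    uTv_mulVec hf hv, Unit.formDual_add, Unit.formDual_smul] at h1
  have hd2 : Unit.formDual hf v ⬝ᵥ u = 0 := by rw [Unit.formDual_dot, huv]
  rw [tvGL_add_right hd (by rw [smul_dotProduct, hd2, smul_zero])] at h1
  have h2 := (M.mul_mem_cancel_left hm).1 h1
  rw [← tvGL_smul _ hd2] at h2
  set k := σ (τ * f a v) with hk
  have hk0 : k ≠ 0 := by
    intro e
    have e' := congrArg σ e
    rw [hk, hf.involutive, map_zero] at e'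
    exact mul_ne_zero hτ0 hav e'
  refine full_of_centre hf hn hSU hv hv0 (by rw [hf.smul_left, huv, mul_zero]) (fun hmem => ?_) h2
  rw [Submodule.smul_mem_iff _ hk0, Submodule.mem_span_singleton] at hmem
  obtain ⟨l, rfl⟩ := hmem
  rw [hf.smul_left, mul_eq_zero] at hua
  rcases hua with e | e
  · exact hu0 (by rw [e, zero_smul])
  · exact hav (eq_zero_comm hf e)

/-- A transvection fixed on the right by a unitary one. -/
lemma rule_axis (hf : IsUnitaryForm σ f) (hn : Fintype.card ι = 3) (hSU : HasSU f M)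
    {u a v : ι → F} (hua : f u a = 0) (ha0 : a ≠ 0) (hm : tvGL u (Unit.formDual hf a) ∈ M)
    (hv : f v v = 0) (hv0 : v ≠ 0) (hav : f a v = 0) (huv : f u v ≠ 0) : Full hf M v := by
  obtain ⟨τ, hτ0, hτ⟩ := exists_trace_zero hf.ne_refl hf.involutive
  have hd : Unit.formDual hf a ⬝ᵥ u = 0 := by rw [Unit.formDual_dot, hua]
  have hS := tv_mem hf hSU hv hτ
  have h1 := M.mul_mem (M.mul_mem hS hm) (M.inv_mem hS)
  rw [conj_tvGL _ hd, Unit.formDual_vecMul_inv hf (uTv_mem_isoOf hf hv hτ), uTv_mulVec_of_orth hf hv τ hav,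
    uTv_mulVec hf hv] at h1
  have hd2 : Unit.formDual hf a ⬝ᵥ v = 0 := by rw [Unit.formDual_dot, eq_zero_comm hf hav]
  rw [tvGL_add_left hd (by rw [dotProduct_smul, hd2, smul_zero])] at h1
  have h2 := (M.mul_mem_cancel_left hm).1 h1
  set k := τ * f u v with hk
  rw [tvGL_smul _ hd2, show k • Unit.formDual hf a = Unit.formDual hf (σ k • a) by
    rw [Unit.formDual_smul, hf.involutive]] at h2
  have hk0 : σ k ≠ 0 := fun e => mul_ne_zero hτ0 huv (σ.injective (by rw [map_zero]; exact e))
  refine full_of_axis hf hn hSU hv hv0 (by rw [hf.smul_left, hav, mul_zero]) (fun hmem => ?_) h2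
  rw [Submodule.smul_mem_iff _ hk0, Submodule.mem_span_singleton] at hmem
  obtain ⟨l, rfl⟩ := hmem
  rw [smul_right hf, mul_eq_zero] at hua
  rcases hua with e | e
  · exact ha0 (by rw [show l = 0 by simpa using congrArg σ.symm e, zero_smul])
  · exact huv e

lemma full_smul (hf : IsUnitaryForm σ f) {v : ι → F} (hv : f v v = 0) (hF : Full hf M v) (k : F) :
    Full hf M (k • v) := by
  intro c
  have h := hF (k * (c * σ k))
  rwa [show uTv hf (k • v) c = uTv hf v (k * (c * σ k)) from ?_]
  refine gl_ext_mulVec fun x => ?_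
  rw [uTv_mulVec hf (by rw [hf.smul_left, smul_right hf, hv, mul_zero, mul_zero]),
    uTv_mulVec hf hv, smul_right hf, smul_smul]
  congr 2
  ring

/-- One full root group gives all. -/
lemma full_all (hf : IsUnitaryForm σ f) (hn : Fintype.card ι = 3) (hSU : HasSU f M) {v : ι → F}
    (hv : f v v = 0) (hv0 : v ≠ 0) (hF : Full hf M v) {w : ι → F} (hw : f w w = 0) :
    Full hf M w := by
  by_cases hvw : f v w = 0
  · obtain ⟨k, rfl⟩ := Submodule.mem_span_singleton.1
      (mem_span_of_perp hf hn hv hv0 (eq_zero_comm hf hvw) hw)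
    exact full_smul hf hv hF k
  obtain ⟨τ, hτ0, hτ⟩ := exists_trace_zero hf.ne_refl hf.involutive
  set z := v + (τ * f v w) • w with hz
  have hS := uTv_mem_isoOf hf hw hτ
  have hzv : (uTv hf w τ : Matrix ι ι F) *ᵥ v = z := by rw [uTv_mulVec hf hw]
  have hFz : Full hf M z := fun c => by
    have h1 := M.mul_mem (M.mul_mem (tv_mem hf hSU hw hτ) (hF c)) (M.inv_mem (tv_mem hf hSU hw hτ))
    rwa [uTv_conj hf hS hv, hzv] at h1
  have hzz : f z z = 0 := by rw [← hzv]; exact (hS v v).trans hv
  have hN : σ (f v w * f w v) = f v w * f w v := by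
    rw [map_mul, ← hf.herm, ← hf.herm, mul_comm]
  have hN0 : f v w * f w v ≠ 0 := mul_ne_zero hvw (ne_zero_comm hf hvw)
  set d := -(τ * (f v w * f w v))⁻¹ with hd
  have hdσ : σ d = -d := by
    rw [hd, map_neg, map_inv₀, map_mul, hN, hτ, neg_mul, inv_neg]
  have hD := uTv_mem_isoOf hf hv hdσ
  have hzv' : (uTv hf v d : Matrix ι ι F) *ᵥ z = (τ * f v w) • w := by
    rw [uTv_mulVec hf hv, show f z v = τ * (f v w * f w v) by
      rw [hz, hf.add_left, hf.smul_left, hv]; ring, hd, neg_mul,
      inv_mul_cancel₀ (mul_ne_zero hτ0 hN0), neg_one_smul, hz]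
    abel
  have hFw : Full hf M ((τ * f v w) • w) := fun c => by
    have h1 := M.mul_mem (M.mul_mem (tv_mem hf hSU hv hdσ) (hFz c)) (M.inv_mem (tv_mem hf hSU hv hdσ))
    rwa [uTv_conj hf hD hzz, hzv'] at h1
  have := full_smul hf (by rw [hf.smul_left, smul_right hf, hw, mul_zero, mul_zero]) hFw
    (τ * f v w)⁻¹
  rwa [inv_smul_smul₀ (mul_ne_zero hτ0 hvw)] at this

/-- The full root groups generate the special linear group. -/
lemma sl_le_of_full (hf : IsUnitaryForm σ f) (hn : Fintype.card ι = 3) (hSU : HasSU f M) {v₀ : ι → F}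
    (hv₀ : f v₀ v₀ = 0) (hv₀0 : v₀ ≠ 0) (hF₀ : Full hf M v₀) : specialLinear ι F ≤ M := by
  have hall : ∀ w, f w w = 0 → Full hf M w := fun w hw => full_all hf hn hSU hv₀ hv₀0 hF₀ hw
  have hpair : ∀ x a, f x x ≠ 0 → f a a ≠ 0 → f a x = 0 → ∀ c : F, tvGL x (c • Unit.formDual hf a) ∈ M := by
    intro x a hx ha hax c
    obtain ⟨t, ζ, ht, hζ, h1, h2, h3⟩ := exists_iso_pair hf hx ha hax
    have hζ' : ζ - 1 ≠ 0 := sub_ne_zero.2 hζ
    set p := ζ / (ζ - 1) with hp
    set r := -(ζ - 1)⁻¹ with hr
    have hpr : p + r = 1 := by rw [hp, hr]; field_simp; ring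
    set v := p • (x + t • a) with hv
    set w := r • (x + (t * ζ) • a) with hw
    have hvv : f v v = 0 := by rw [hv, hf.smul_left, smul_right hf, h1]; ring
    have hww : f w w = 0 := by rw [hw, hf.smul_left, smul_right hf, h2]; ring
    have hwv : f w v ≠ 0 := by
      rw [hv, hw, hf.smul_left, smul_right hf]
      refine mul_ne_zero (neg_ne_zero.2 (inv_ne_zero hζ')) (mul_ne_zero ?_ h3)
      intro e
      have := congrArg σ.symm e
      rw [RingEquiv.symm_apply_apply, map_zero] at this
      have hζ0 : ζ ≠ 0 := fun e' => by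
        apply hx
        rw [e', mul_zero, zero_smul, add_zero] at h2
        exact h2
      exact div_ne_zero hζ0 hζ' this
    have hvwx : v + w = x := by
      have hpt : p + r * ζ = 0 := by rw [hp, hr]; field_simp; ring
      rw [hv, hw]
      linear_combination (norm := module) hpr • x + (t * hpt) • a
    clear_value v w
    set l := (f w v)⁻¹ with hl
    have hh := hall v hvv l
    have hhw : (uTv hf v l : Matrix ι ι F) *ᵥ w = x := by
      rw [uTv_mulVec hf hvv, hl, inv_mul_cancel₀ hwv, one_smul, add_comm, hvwx]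
    -- the axis
    set k := σ (l * f v w) with hk
    clear_value k
    set b := w - k • v with hb
    have hbv : f b v ≠ 0 := by rw [hb, sub_left hf, hf.smul_left, hvv, mul_zero, sub_zero]; exact hwv
    have hbeq : b = (r - k * p) • x + ((r * ζ - k * p) * t) • a := by
      rw [hb, hv, hw]; module
    have hfb : ∀ y, f y b = f y w - l * f v w * f y v := fun y => by
      rw [hb, sub_right hf, smul_right hf, hk, hf.involutive]
    have hxb : f x b = 0 := by
      rw [hfb, ← hvwx, hf.add_left, hf.add_left, hvv, hww, hl]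
      field_simp
      ring
    have hα : r - k * p = 0 := by
      rw [hbeq, add_right hf, smul_right hf, smul_right hf, eq_zero_comm hf hax, mul_zero, add_zero,
        mul_eq_zero, or_iff_left hx] at hxb
      simpa using congrArg σ.symm hxb
    set β := σ ((r * ζ - k * p) * t) with hβ
    have hba : ∀ y, f y b = β * f y a := fun y => by
      rw [hbeq, hα, zero_smul, zero_add, smul_right hf]
    have hβ0 : β ≠ 0 := fun e => hbv (eq_zero_comm hf (by rw [hba, e, zero_mul]))
    have h4 := M.mul_mem (M.mul_mem hh (hall w hww (c / β))) (M.inv_mem hh)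
    rw [show uTv hf w (c / β) = tvGL w ((c / β) • Unit.formDual hf w) from rfl,
      conj_tvGL _ (uTv_dot hf hww _), hhw, uTv_inv_eq hf hvv] at h4
    convert h4 using 2
    refine dotProduct_eq _ _ fun y => ?_
    rw [← dotProduct_mulVec, uTv_mulVec hf hvv]
    simp only [smul_dotProduct, Unit.formDual_dot, dotProduct_add, dotProduct_smul, smul_eq_mul]
    have e := hba y
    rw [hfb] at e
    field_simp
    linear_combination -c * e
  have hcen : ∀ x, f x x ≠ 0 → x ∈ centres M := by
    intro x hx φ hφ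
    obtain ⟨a, a', ha, ha', hax, ha'x, ha'a⟩ := exists_pair_perp hf hn hx
    let L : (ι → F) →ₗ[F] F :=
      { toFun := fun y => φ ⬝ᵥ y
        map_add' := dotProduct_add φ
        map_smul' := fun c y => dotProduct_smul c φ y }
    obtain ⟨b, hb⟩ := Unit.exists_form_eq hf L
    have hb' : ∀ y, f y b = φ ⬝ᵥ y := fun y => hb y
    set β := f a b / f a a
    set β' := f a' b / f a' a'
    have key : φ = β • Unit.formDual hf a + β' • Unit.formDual hf a' := by
      have hz : b - (σ β • a + σ β' • a') = 0 := eq_zero_of_orth hf hn hx ha ha' hax ha'x ha'a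
        (by simp only [sub_right hf, add_right hf, smul_right hf, hb', hφ, eq_zero_comm hf hax,
              eq_zero_comm hf ha'x]; ring)
        (by simp only [sub_right hf, add_right hf, smul_right hf, hf.involutive, eq_zero_comm hf ha'a, β]
            field_simp; ring)
        (by simp only [sub_right hf, add_right hf, smul_right hf, hf.involutive, ha'a, β']
            field_simp; ring)
      refine dotProduct_eq _ _ fun y => ?_
      rw [← hb' y, sub_eq_zero.1 hz, add_right hf, smul_right hf, smul_right hf, hf.involutive,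
        hf.involutive]
      simp only [add_dotProduct, smul_dotProduct, Unit.formDual_dot, smul_eq_mul]
    rw [key, tvGL_add_right (by rw [smul_dotProduct, Unit.formDual_dot, eq_zero_comm hf hax, smul_zero])
      (by rw [smul_dotProduct, Unit.formDual_dot, eq_zero_comm hf ha'x, smul_zero])]
    exact M.mul_mem (hpair x a hx ha hax β) (hpair x a' hx ha' ha'x β')
  obtain ⟨u, -, hu⟩ := exists_value hf (W := ⊤) (by rw [finrank_top, Module.finrank_fintype_fun_eq_card]; omega)
    (map_one σ)
  have hu' : f u u ≠ 0 := by rw [hu]; exact one_ne_zero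
  obtain ⟨x, a, hx, ha, hxu, hau, hax⟩ := exists_pair_perp hf hn hu'
  have hC : centres M = ⊤ := by
    rw [eq_top_iff, ← span_orth hf hn hu' hx ha hxu hau hax, Submodule.span_le]
    rintro _ ⟨i, rfl⟩
    fin_cases i
    exacts [hcen u hu', hcen x hx, hcen a ha]
  exact sl_le_of_tvGL fun w φ hφ => (hC ▸ Submodule.mem_top : w ∈ centres M) φ hφ

omit [DecidableEq F] in
/-- Forms agreeing up to scalars on all isotropic points of the second are proportional. -/
lemma exists_scalar (hf : IsUnitaryForm σ f) (hn : Fintype.card ι = 3) {g : (ι → F) → (ι → F) → F}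
    (hg : IsUnitaryForm σ g)
    (h : ∀ u, u ≠ 0 → g u u = 0 → f u u = 0 ∧ ∃ k : F, ∀ x, g x u = k * f x u) :
    ∃ c : F, c ≠ 0 ∧ ∀ x y, g x y = c * f x y := by
  have htop : Fintype.card ι + 2 < 2 * Module.finrank F (⊤ : Submodule F (ι → F)) := by
    rw [finrank_top, Module.finrank_fintype_fun_eq_card]; omega
  obtain ⟨v, -, hv0, hv⟩ := exists_isotropic_mem hg (W := ⊤) (by omega)
  obtain ⟨z, hz⟩ := (hg.nondegenerate v hv0).1
  obtain ⟨w, -, hw, hwv, -⟩ := exists_isotropic_avoid hg htop (Unit.formL hg v) (Unit.formL hg v)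
    ⟨z, Submodule.mem_top, hz⟩ ⟨z, Submodule.mem_top, hz⟩
  have hwv' : g w v ≠ 0 := hwv
  have hvw : g v w ≠ 0 := ne_zero_comm hg hwv'
  obtain ⟨e, he, he0⟩ := LinSub.exists_dot_zero ![Unit.formDual hg v, Unit.formDual hg w]
    (![] : Fin 0 → ι → F) (by omega)
  have hev : g e v = 0 := by rw [← Unit.formDual_dot hg v e]; exact he 0
  have hew : g e w = 0 := by rw [← Unit.formDual_dot hg w e]; exact he 1
  have hee : g e e ≠ 0 := fun h0 => by
    obtain ⟨l, hl⟩ := Submodule.mem_span_singleton.1 (mem_span_of_perp hg hn hv hv0 hev h0)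
    rw [← hl, hg.smul_left, mul_eq_zero] at hew
    exact he0 (by rw [← hl, hew.resolve_right hvw, zero_smul]; exact zero_mem _)
  obtain ⟨s, hs⟩ := exists_trace_eq hg (map_one σ)
  set β := σ (s / g v w) with hβ
  obtain ⟨d, hd⟩ := exists_norm_eq hg.ne_refl hg.involutive (s := - (1 / g e e))
    (by rw [map_neg, map_div₀, map_one, self_fixed hg])
  have hd0 : d ≠ 0 := fun e0 => by
    rw [e0, zero_mul] at hd
    exact one_div_ne_zero hee (neg_eq_zero.1 hd.symm)
  set u := v + β • w + d • e with hu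
  have hσβ : σ β * g v w = s := by rw [hβ, hg.involutive, div_mul_cancel₀ _ hvw]
  have huu : g u u = 0 := by
    simp only [hu, hg.add_left, hg.smul_left, add_right hg, smul_right hg, hv, hw, hev, hew,
      eq_zero_comm hg hev, eq_zero_comm hg hew, mul_zero, zero_add, add_zero]
    have e1 : σ s = β * g w v := by rw [← hσβ, map_mul, hg.involutive, ← hg.herm]
    rw [← e1, hσβ, ← mul_assoc, hd, neg_mul, one_div_mul_cancel hee]
    linear_combination hs
  obtain ⟨hfv, kv, hkv⟩ := h v hv0 hv
  have hw0 : w ≠ 0 := fun e0 => hwv' (by rw [e0, zero_left hg])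
  obtain ⟨hfw, kw, hkw⟩ := h w hw0 hw
  have hu0 : u ≠ 0 := fun e0 => by
    have := congrArg (fun y => g y e) e0
    simp only [hu, hg.add_left, hg.smul_left, eq_zero_comm hg hev, eq_zero_comm hg hew, mul_zero,
      zero_add, zero_left hg, mul_eq_zero] at this
    exact this.elim hd0 hee
  obtain ⟨-, c, hc⟩ := h u hu0 huu
  have hkv0 : kv ≠ 0 := fun e0 => hwv' (by rw [hkv, e0, zero_mul])
  have hkw0 : kw ≠ 0 := fun e0 => hvw (by rw [hkw, e0, zero_mul])
  have hfwv : f w v ≠ 0 := fun e0 => hwv' (by rw [hkv, e0, mul_zero])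
  have hfvw : f v w ≠ 0 := ne_zero_comm hf hfwv
  have hfev : f e v = 0 := by
    have := hkv e
    rw [hev] at this
    exact (mul_eq_zero.1 this.symm).resolve_left hkv0
  have hfew : f e w = 0 := by
    have := hkw e
    rw [hew] at this
    exact (mul_eq_zero.1 this.symm).resolve_left hkw0
  have hβ0 : σ β ≠ 0 := fun e0 => by
    rw [e0, zero_mul] at hσβ
    rw [← hσβ, map_zero, add_zero] at hs
    exact zero_ne_one hs
  have hcv : ∀ x, g x v + σ β * g x w + σ d * g x e
      = c * (f x v + σ β * f x w + σ d * f x e) := fun x => by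
    have := hc x
    simpa only [hu, add_right hg, add_right hf, smul_right hg, smul_right hf] using this
  have hckw : kw = c := by
    have e1 := hcv v
    rw [hv, hkw v, hfv, eq_zero_comm hg hev, eq_zero_comm hf hfev] at e1
    have e2 : (kw - c) * (σ β * f v w) = 0 := by linear_combination e1
    exact sub_eq_zero.1 ((mul_eq_zero.1 e2).resolve_right (mul_ne_zero hβ0 hfvw))
  have hckv : kv = c := by
    have e1 := hcv w
    rw [hw, hkv w, hfw, eq_zero_comm hg hew, eq_zero_comm hf hfew] at e1
    have e2 : (kv - c) * f w v = 0 := by linear_combination e1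
    exact sub_eq_zero.1 ((mul_eq_zero.1 e2).resolve_right hfwv)
  have hσd : σ d ≠ 0 := fun e0 => hd0 (by simpa using congrArg σ.symm e0)
  have hce : ∀ x, g x e = c * f x e := fun x => by
    have e1 := hcv x
    rw [hkv x, hkw x, hckv, hckw] at e1
    exact mul_left_cancel₀ hσd (by linear_combination e1)
  refine ⟨c, hckv ▸ hkv0, fun x y => ?_⟩
  have hli : LinearIndependent F ![v, w, e] := by
    refine Fintype.linearIndependent_iff.2 fun q hq i => ?_
    rw [Fin.sum_univ_three] at hq
    simp only [Matrix.cons_val_zero, Matrix.cons_val_one, Matrix.cons_val] at hq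
    have h1 := congrArg (fun y => g y v) hq
    have h2 := congrArg (fun y => g y w) hq
    have h3 := congrArg (fun y => g y e) hq
    simp only [hg.add_left, hg.smul_left, zero_left hg, hv, hw, hev, hew, eq_zero_comm hg hev,
      eq_zero_comm hg hew, mul_zero, add_zero, zero_add, mul_eq_zero] at h1 h2 h3
    fin_cases i
    · exact h2.resolve_right hvw
    · exact h1.resolve_right hwv'
    · exact h3.resolve_right hee
  have hy : y ∈ Submodule.span F (Set.range ![v, w, e]) := by
    rw [hli.span_eq_top_of_card_eq_finrank (by rw [Fintype.card_fin, Module.finrank_fintype_fun_eq_card, hn])]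
    trivial
  induction hy using Submodule.span_induction with
  | mem p hp =>
    obtain ⟨i, rfl⟩ := hp
    fin_cases i
    · simpa [hckv] using hkv x
    · simpa [hckw] using hkw x
    · simpa using hce x
  | zero => rw [zero_right hg, zero_right hf, mul_zero]
  | add p q _ _ hp hq => rw [add_right hg, add_right hf, hp, hq, mul_add]
  | smul t p _ hp => rw [smul_right hg, smul_right hf, hp]; ring

/-- Unitary similarities form a maximal subgroup of the special linear group, dimension three. -/
theorem unitary_maximal (hf : IsUnitaryForm σ f) (hn : Fintype.card ι = 3) :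
    IsMaximalIn (specialLinear ι F) (similarityGroup f ⊓ specialLinear ι F) := by
  obtain ⟨τ, hτ0, hτ⟩ := exists_trace_zero hf.ne_refl hf.involutive
  have htop : Fintype.card ι + 2 < 2 * Module.finrank F (⊤ : Submodule F (ι → F)) := by
    rw [finrank_top, Module.finrank_fintype_fun_eq_card]; omega
  refine CfsgLib.ClassicalMax.isMaximalIn_of inf_le_right ?_ fun M hHM hMK g hgM hgH => ?_
  · obtain ⟨u, -, hu⟩ := exists_value hf (W := ⊤) (by rw [finrank_top, Module.finrank_fintype_fun_eq_card]; omega)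
      (map_one σ)
    have hu' : f u u ≠ 0 := by rw [hu]; exact one_ne_zero
    obtain ⟨x, a, hx, ha, hxu, hau, hax⟩ := exists_pair_perp hf hn hu'
    have hdot : Unit.formDual hf u ⬝ᵥ x = 0 := by rw [Unit.formDual_dot, hxu]
    refine ⟨tvGL x (Unit.formDual hf u), tvGL_mem_sl _ _, ?_⟩
    rintro ⟨⟨c, hc⟩, -⟩
    have h1 := hc a a
    have h2 := hc u u
    simp only [tvGL_mulVec hdot, Unit.formDual_dot, hau, zero_smul, add_zero] at h1
    have hc1 : (c : F) = 1 := (mul_eq_right₀ ha).1 h1.symm
    simp only [tvGL_mulVec hdot, Unit.formDual_dot, hc1, one_mul, hf.add_left, add_right hf, hf.smul_left,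
      smul_right hf, hxu, eq_zero_comm hf hxu, hu, map_one, one_mul, mul_one, add_zero, mul_zero,
      zero_add, add_eq_left] at h2
    exact hx h2
  by_contra hSL
  have hSU : HasSU f M := fun h hh =>
    hHM ⟨⟨1, fun p q => by rw [Units.val_one, one_mul]; exact hh.1 p q⟩, hh.2⟩
  set f' : (ι → F) → (ι → F) → F :=
    fun p q => f ((g : Matrix ι ι F) *ᵥ p) ((g : Matrix ι ι F) *ᵥ q) with hf'def
  have hf' : IsUnitaryForm σ f' := pullback hf g
  have hno : ∀ v, f v v = 0 → v ≠ 0 → ¬ Full hf M v := fun v hv hv0 hF =>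
    hSL (sl_le_of_full hf hn hSU hv hv0 hF)
  -- isotropic points on the polar line of an anisotropic one
  have hperp : ∀ z y, f z z ≠ 0 → (∀ v, f v v = 0 → v ≠ 0 → f z v = 0 → f y v = 0) → f y z = 0 →
      y = 0 := by
    intro z y hz hall hyz
    obtain ⟨x, a, hx, ha, hxz, haz, hax⟩ := exists_pair_perp hf hn hz
    obtain ⟨t, ζ, ht, hζ, h1, h2, h3⟩ := exists_iso_pair hf hx ha hax
    have key : ∀ s : F, f (x + s • a) (x + s • a) = 0 → f y x + σ s * f y a = 0 := by
      intro s hs
      have hne : x + s • a ≠ 0 := fun e => hx (by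
        have := congrArg (fun v => f v x) e
        simpa only [hf.add_left, hf.smul_left, hax, mul_zero, add_zero, zero_left hf] using this)
      have := hall _ hs hne (by rw [add_right hf, smul_right hf, eq_zero_comm hf hxz,
        eq_zero_comm hf haz, mul_zero, add_zero])
      rwa [add_right hf, smul_right hf] at this
    have e1 := key t h1
    have e2 := key (t * ζ) h2
    have hya : f y a = 0 := by
      have : σ t * (1 - σ ζ) * f y a = 0 := by rw [map_mul] at e2; linear_combination e1 - e2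
      refine (mul_eq_zero.1 this).resolve_left (mul_ne_zero (fun e => ht ?_) (sub_ne_zero.2 fun e => hζ ?_))
      · simpa using congrArg σ.symm e
      · simpa using congrArg σ.symm e.symm
    exact eq_zero_of_orth hf hn hz hx ha hxz haz hax (eq_zero_comm hf hyz)
      (eq_zero_comm hf (by rwa [hya, mul_zero, add_zero] at e1)) (eq_zero_comm hf hya)
  have hkey : ∀ u, u ≠ 0 → f' u u = 0 → f u u = 0 ∧ ∃ k : F, ∀ x, f' x u = k * f x u := by
    intro u hu0 hu'
    obtain ⟨w, hw⟩ := Unit.exists_form_eq hf (Unit.formL hf' u)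
    have hw' : ∀ x, f x w = f' x u := hw
    set a := σ τ • w with ha
    have ha0 : a ≠ 0 := fun e => by
      obtain ⟨x, hx⟩ := (hf'.nondegenerate u hu0).1
      have := congrArg (fun z => f x z) e
      rw [ha, smul_right hf, hf.involutive, hw', zero_right hf, mul_eq_zero] at this
      exact this.elim hτ0 hx
    have hua : f u a = 0 := by rw [ha, smul_right hf, hw', hu', mul_zero]
    have hm : tvGL u (Unit.formDual hf a) ∈ M := by
      have hd : Unit.formDual hf a ⬝ᵥ u = 0 := by rw [Unit.formDual_dot, hua]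
      have : tvGL u (Unit.formDual hf a) = g⁻¹ * uTv hf ((g : Matrix ι ι F) *ᵥ u) τ * g := by
        refine gl_ext_mulVec fun x => ?_
        rw [tvGL_mulVec hd, Unit.formDual_dot, gl_mulVec_mul, gl_mulVec_mul, uTv_mulVec hf hu', mulVec_add,
          mulVec_smul, gl_inv_mulVec_mulVec, gl_inv_mulVec_mulVec, ha, smul_right hf, hf.involutive, hw']
      rw [this]
      exact M.mul_mem (M.mul_mem (M.inv_mem hgM) (tv_mem hf hSU hu' hτ)) hgM
    have huu : f u u = 0 := by
      by_contra huu
      refine ha0 (hperp u a huu (fun v hv hv0 huv => ?_) (eq_zero_comm hf hua))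
      by_contra hav
      exact hno v hv hv0 (rule_centre hf hn hSU hua hu0 hm hv hv0 huv hav)
    refine ⟨huu, ?_⟩
    have hspan : a ∈ Submodule.span F {u} := by
      refine mem_span_of_perp hf hn huu hu0 (eq_zero_comm hf hua) (by_contra fun haa => ?_)
      refine hu0 (hperp a u haa (fun v hv hv0 hav => ?_) hua)
      by_contra huv
      exact hno v hv hv0 (rule_axis hf hn hSU hua ha0 hm hv hv0 hav huv)
    obtain ⟨l, hl⟩ := Submodule.mem_span_singleton.1 hspan
    refine ⟨σ l / τ, fun x => ?_⟩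
    have := congrArg (fun z => f x z) hl
    rw [ha, smul_right hf, smul_right hf, hf.involutive, hw'] at this
    field_simp
    linear_combination -this
  obtain ⟨c, hc0, hc⟩ := exists_scalar hf hn hf' hkey
  exact hgH ⟨⟨Units.mk0 c hc0, fun x y => hc x y⟩, hMK hgM⟩

end CfsgLib.ClassicalMax.SL3Geo.UnitThree
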