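/-
Geometric maximal subgroups of special linear groups of dimension three, in the statement form.
-/
import Cfsg.Agent.Lib.ClassicalMax.SLGeoSmall
import Cfsg.Agent.Lib.ClassicalMax.SL3Geo.Mon
import Cfsg.Agent.Lib.ClassicalMax.SL3Geo.Subfield
import Cfsg.Agent.Lib.ClassicalMax.SL3Geo.Unit
import Cfsg.Agent.Lib.ClassicalMax.SL3Geo.Quad
set_option autoImplicit false

namespace CfsgLib.ClassicalMax.SL3Geo

variable {F : Type*} [Field F] [Fintype F]

open Cfsg.Geo

/-- Stabilisers of decompositions into three lines. -/
theorem decomposition_maximal (hq : 5 ≤ Fintype.card F) {D : Fin 3 → Submodule F (Fin 3 → F)}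
    (hD : IsMDecomposition 1 D) :
    IsMaximalIn (specialLinear (Fin 3) F) (decompositionStabilizer D ⊓ specialLinear (Fin 3) F) :=
  MonThree.decomposition_maximal hD hq

/-- Subfield groups. -/
theorem subfield_maximal (F₀ : Subfield F) (r : ℕ) (hr : r.Prime)
    (hcard : Fintype.card F = Nat.card F₀ ^ r) (P : Matrix.GeneralLinearGroup (Fin 3) F) :
    IsMaximalIn (specialLinear (Fin 3) F) (subfieldSubgroup F₀ P ⊓ specialLinear (Fin 3) F) := by
  classical
  haveI := Fintype.ofFinite F₀
  have hfr : Module.finrank F₀ F = r := by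
    have h := Module.card_eq_pow_finrank (K := F₀) (V := F)
    rw [hcard, Nat.card_eq_fintype_card] at h
    exact (Nat.pow_right_injective Fintype.one_lt_card h).symm
  exact SubThree.sl_subfield_maximal (by simp) (hfr ▸ hr) P

/-- Unitary similarities. -/
theorem unitary_maximal (σ : F ≃+* F) (f : (Fin 3 → F) → (Fin 3 → F) → F) (hf : IsUnitaryForm σ f) :
    IsMaximalIn (specialLinear (Fin 3) F) (similarityGroup f ⊓ specialLinear (Fin 3) F) := by
  classical
  exact UnitThree.unitary_maximal hf (by simp)

/-- Orthogonal similarities. -/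
theorem quadratic_maximal (hodd : Odd (Fintype.card F)) (Q : (Fin 3 → F) → F)
    (hQ : IsNondegenerateQuadraticForm Q) :
    IsMaximalIn (specialLinear (Fin 3) F) (quadSimilarityGroup Q ⊓ specialLinear (Fin 3) F) := by
  classical
  have h2 : (2 : F) ≠ 0 := by
    intro h2
    haveI : CharP F 2 := CharTwo.of_one_ne_zero_of_two_eq_zero one_ne_zero h2
    have h := FiniteField.even_card_of_char_two (F := F) (ringChar.eq F 2)
    have := Nat.odd_iff.1 hodd
    omega
  let Q' : QuadraticForm F (Fin 3 → F) := QuadraticMap.ofPolar Q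
    (fun a x => by rw [hQ.smul, smul_eq_mul]; ring)
    (fun x x' y => hQ.polar_bilinear.add_left x x' y)
    (fun a x y => hQ.polar_bilinear.smul_left a x y)
  exact QuadThree.similarity_maximal (Q := Q')
    (fun x hx => by
      by_contra h0
      obtain ⟨y, hy⟩ := (hQ.nondegenerate x h0).2
      exact hy (hx y))
    h2 (by simp)

end CfsgLib.ClassicalMax.SL3Geo
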